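import Cfsg.Agent.H270.GT.Types

/-!
# S5211, `q = 2`: properties of the five candidates (helper270)
-/

set_option autoImplicit false

namespace Cfsg.Agent.H270.GT

open Cfsg Cfsg.FusionSystem Cfsg.Agent.H779.G2 Cfsg.Agent.H756.PU Cfsg.Agent.H103.GT Cfsg.Agent.H802

universe u

section

variable {K : Type u} [Field K]

/-- the candidate generated by the element of type `(i, j)` -/
def Ty (K : Type u) [Field K] (i j : ℕ) : Subgroup (MulAut (Qa K)) := GenR {R1m ^ i * R2m ^ j}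

theorem Ty_10 : Ty K 1 0 = GenR {R1m} := by simp [Ty]
theorem Ty_01 : Ty K 0 1 = GenR {R2m} := by simp [Ty]
theorem Ty_11 : Ty K 1 1 = GenR {R1m * R2m} := by simp [Ty]
theorem Ty_12 : Ty K 1 2 = GenR {R1m * R2m * R2m} := by simp [Ty, pow_two, mul_assoc]

theorem rho_add (hK : HypG K 2 1) (γ : MulAut (Qa K)) (v w : Fin 4 → K) :
    rho hK γ (v + w) = rho hK γ v + rho hK γ w := by
  have h1 : v + w = vec (lift v * lift w) := by rw [vec_mul, vec_lift, vec_lift]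
  rw [h1, rho_vec, map_mul, vec_mul, rho_apply, rho_apply]

/-- the permutation of type `(i, j)` -/
theorem exists_pow (hK : HypG K 2 1) (i j : ℕ) : ∃ γ : MulAut (Qa K), LinA (R1m ^ i * R2m ^ j) γ := by
  obtain ⟨γ1, γ2, -, g1, g2, -, -⟩ := exists_pm hK
  have p1 : ∀ n : ℕ, LinA (R1m ^ n) (γ1 ^ n) := by
    intro n
    induction n with
    | zero =>
      rw [linA_iff hK]
      intro v
      simp
    | succ n ih => rw [pow_succ, pow_succ]; exact LinA.mul hK ih g1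
  have p2 : ∀ n : ℕ, LinA (R2m ^ n) (γ2 ^ n) := by
    intro n
    induction n with
    | zero =>
      rw [linA_iff hK]
      intro v
      simp
    | succ n ih => rw [pow_succ, pow_succ]; exact LinA.mul hK ih g2
  exact ⟨γ1 ^ i * γ2 ^ j, LinA.mul hK (p1 i) (p2 j)⟩

theorem exists_mem_Ty (hK : HypG K 2 1) (i j : ℕ) : ∃ γ ∈ Ty K i j, LinA (R1m ^ i * R2m ^ j) γ := by
  obtain ⟨γ, hγ⟩ := exists_pow hK i j
  exact ⟨γ, Subgroup.subset_closure (Or.inr ⟨_, rfl, hγ⟩), hγ⟩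

/-- the image of a candidate -/
theorem six_of (hK : HypG K 2 1) (i j : ℕ) : ∃ (m x : Equiv.Perm (Fin 4 → K)) (hm : m ^ 3 = 1) (hx : x ^ 2 = 1)
    (hxm : x * m = m ^ 2 * x), (∀ v, m v = (R1m ^ i * R2m ^ j : Matrix (Fin 4) (Fin 4) K).mulVec v) ∧
    ∀ γ ∈ Ty K i j, rho hK γ ∈ six m x hm hx hxm := by
  obtain ⟨γ1, γ2, γx, g1, g2, gx, hP⟩ := exists_pm hK
  have hR1 : ∀ v, (rho hK γ1) v = R1m.mulVec v := (linA_iff hK).1 g1
  have hR2 : ∀ v, (rho hK γ2) v = R2m.mulVec v := (linA_iff hK).1 g2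
  set r1 := rho hK γ1 with hr1
  set r2 := rho hK γ2 with hr2
  set x := rho hK γx with hx
  have p1 : ∀ (n : ℕ) v, (r1 ^ n) v = (R1m ^ n).mulVec v := by
    intro n
    induction n with
    | zero => intro v; simp
    | succ n ih => intro v; rw [pow_succ, Equiv.Perm.mul_apply, ih, hR1, Matrix.mulVec_mulVec, ← pow_succ]
  have p2 : ∀ (n : ℕ) v, (r2 ^ n) v = (R2m ^ n).mulVec v := by
    intro n
    induction n with
    | zero => intro v; simp
    | succ n ih => intro v; rw [pow_succ, Equiv.Perm.mul_apply, ih, hR2, Matrix.mulVec_mulVec, ← pow_succ]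
  have c1 : r1 ^ 3 = 1 := hP.r1_3 hK
  have c2 : r2 ^ 3 = 1 := hP.r2_3 hK
  have cc : Commute r1 r2 := hP.comm hK
  have cx : x ^ 2 = 1 := hP.x_2 hK
  have hm : (r1 ^ i * r2 ^ j) ^ 3 = 1 := by
    rw [(cc.pow_pow i j).mul_pow, ← pow_mul, ← pow_mul, mul_comm i, mul_comm j, pow_mul, pow_mul, c1, c2, one_pow,
      one_pow, one_mul]
  have s1 : ∀ n : ℕ, x * r1 ^ n = r1 ^ (2 * n) * x := by
    intro n
    induction n with
    | zero => simp
    | succ n ih => rw [pow_succ, ← mul_assoc, ih, mul_assoc, hP.x_r1 hK, ← mul_assoc, ← pow_add]; ring_nf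
  have s2 : ∀ n : ℕ, x * r2 ^ n = r2 ^ (2 * n) * x := by
    intro n
    induction n with
    | zero => simp
    | succ n ih => rw [pow_succ, ← mul_assoc, ih, mul_assoc, hP.x_r2 hK, ← mul_assoc, ← pow_add]; ring_nf
  have hxm : x * (r1 ^ i * r2 ^ j) = (r1 ^ i * r2 ^ j) ^ 2 * x := by
    rw [← mul_assoc, s1, mul_assoc, s2, (cc.pow_pow i j).mul_pow, ← pow_mul, ← pow_mul, mul_comm 2 i, mul_comm 2 j,
      mul_assoc]
  have hmv : ∀ v, (r1 ^ i * r2 ^ j) v = (R1m ^ i * R2m ^ j : Matrix (Fin 4) (Fin 4) K).mulVec v := by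
    intro v
    rw [Equiv.Perm.mul_apply, p1, p2, Matrix.mulVec_mulVec]
  refine ⟨r1 ^ i * r2 ^ j, x, hm, cx, hxm, hmv, ?_⟩
  have hle : Ty K i j ≤ (six (r1 ^ i * r2 ^ j) x hm cx hxm).comap (rho hK) := by
    unfold Ty GenR
    rw [Subgroup.closure_le]
    rintro γ (hγ | ⟨M, hM, hγ⟩)
    · rcases rho_ind hK hγ with h | h
      · exact ⟨0, 0, by norm_num, by norm_num, by rw [h]; simp⟩
      · refine ⟨0, 1, by norm_num, by norm_num, ?_⟩
        rw [pow_zero, one_mul, pow_one]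
        apply Equiv.ext
        intro v
        rw [h, hP.ex]
    · refine ⟨1, 0, by norm_num, by norm_num, ?_⟩
      rw [pow_one, pow_zero, mul_one]
      apply Equiv.ext
      intro v
      rw [(linA_iff hK).1 hγ, hmv, Set.mem_singleton_iff.1 hM]
  exact fun γ hγ => hle hγ

theorem finite_mulAut_Qa (hK : HypG K 2 1) : Finite (MulAut (Qa K)) := by
  have : Finite K := hK.fin
  exact Cfsg.Agent.H759.finite_mulAut

/-- nine does not divide the order of a candidate of type `(i, j)` -/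
theorem not_nine_Ty (hK : HypG K 2 1) (i j : ℕ) : ¬ 9 ∣ Nat.card (Ty K i j) := by
  have hfin : Finite K := hK.fin
  have hfm := finite_mulAut_Qa hK
  obtain ⟨m, x, hm, hx, hxm, -, h⟩ := six_of hK i j
  exact not_nine (rho hK) (fun a ha => ker_rho hK ha) (six_card m x hm hx hxm) inferInstance h

/-- the elements of a diagonal candidate have fixed vectors -/
theorem fixed_of (hK : HypG K 2 1) {i j : ℕ} {v0 : Fin 4 → K} (hv0 : v0 ≠ 0)
    (hf : (R1m ^ i * R2m ^ j : Matrix (Fin 4) (Fin 4) K).mulVec v0 = v0) {γ : MulAut (Qa K)} (hγ : γ ∈ Ty K i j) :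
    ∃ v, v ≠ 0 ∧ rho hK γ v = v := by
  obtain ⟨m, x, hm, hx, hxm, hmv, h⟩ := six_of hK i j
  obtain ⟨k, l, hk, hl, e⟩ := h γ hγ
  have hf' : m v0 = v0 := by rw [hmv, hf]
  rcases Nat.lt_or_ge l 1 with hl' | hl'
  · have : l = 0 := by omega
    subst this
    refine ⟨v0, hv0, ?_⟩
    rw [e, pow_zero, mul_one]
    clear e hk
    induction k with
    | zero => rfl
    | succ k ih => rw [pow_succ, Equiv.Perm.mul_apply, hf', ih]
  · have : l = 1 := by omega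
    subst this
    have hc : ∀ n : ℕ, x * m ^ n = m ^ (2 * n) * x := by
      intro n
      induction n with
      | zero => simp
      | succ n ih => rw [pow_succ, ← mul_assoc, ih, mul_assoc, hxm, ← mul_assoc, ← pow_add]; ring_nf
    have hsq : rho hK γ * rho hK γ = 1 := by
      rw [e, pow_one, mul_assoc, ← mul_assoc x, hc, mul_assoc, ← pow_two, hx, mul_one, ← pow_add]
      have : k + 2 * k = 3 * k := by ring
      rw [this, pow_mul, hm, one_pow]
    have hsq' : ∀ v, rho hK γ (rho hK γ v) = v := fun v => by rw [← Equiv.Perm.mul_apply, hsq, Equiv.Perm.one_apply]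
    by_cases hall : ∀ v, v + rho hK γ v = 0
    · refine ⟨v0, hv0, ?_⟩
      have h1 := hall v0
      funext s
      have h2 := congrFun h1 s
      have h3 := two0 hK
      simp only [Pi.add_apply, Pi.zero_apply] at h2
      linear_combination h2 - v0 s * h3
    · push Not at hall
      obtain ⟨v, hv⟩ := hall
      refine ⟨_, hv, ?_⟩
      rw [rho_add, hsq', add_comm]

theorem fixed_11 (hK : HypG K 2 1) {γ : MulAut (Qa K)} (hγ : γ ∈ Ty K 1 1) : ∃ v, v ≠ 0 ∧ rho hK γ v = v := by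
  have h2 := two0 hK
  refine fixed_of hK (v0 := ![1, 1, 0, 1]) ?_ ?_ hγ
  · intro h
    exact one_ne_zero (congrFun h 0)
  · rw [pow_one, pow_one, ← Matrix.mulVec_mulVec, R2m_mulVec, R1m_mulVec]
    funext i
    fin_cases i <;> simp <;> grind

theorem fixed_12 (hK : HypG K 2 1) {γ : MulAut (Qa K)} (hγ : γ ∈ Ty K 1 2) : ∃ v, v ≠ 0 ∧ rho hK γ v = v := by
  have h2 := two0 hK
  refine fixed_of hK (v0 := ![1, 0, 0, 1]) ?_ ?_ hγ
  · intro h
    exact one_ne_zero (congrFun h 0)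
  · rw [pow_one, pow_two, ← Matrix.mulVec_mulVec, ← Matrix.mulVec_mulVec, R2m_mulVec, R2m_mulVec, R1m_mulVec]
    funext i
    fin_cases i <;> simp <;> grind

/-- the candidate `GenR {R1m}` leaves `Z₃` invariant -/
theorem inv_10 (hK : HypG K 2 1) : Inv (Ty K 1 0) (Z3 K) := by
  refine ⟨Z3_le_Qa, ?_⟩
  let T : Subgroup (MulAut (Qa K)) :=
    { carrier := {γ | ∀ g : Qa K, ((γ g : Qa K) : GU K) ∈ Z3 K ↔ (g : GU K) ∈ Z3 K}
      one_mem' := fun g => Iff.rfl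
      mul_mem' := by
        intro γ δ hγ hδ g
        rw [MulAut.mul_apply, hγ, hδ]
      inv_mem' := by
        intro γ hγ g
        rw [← hγ, MulAut.apply_inv_self] }
  have hmem : ∀ g : Qa K, (g : GU K) ∈ Z3 K ↔ vec g 0 = 0 ∧ vec g 1 = 0 := by
    intro g
    rw [mem_Z3]
    constructor
    · rintro ⟨-, h1, h2⟩
      exact ⟨h1, h2⟩
    · rintro ⟨h1, h2⟩
      exact ⟨g.2, h1, h2⟩
  have hle : Ty K 1 0 ≤ T := by
    unfold Ty GenR
    rw [Subgroup.closure_le]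
    rintro γ (hγ | ⟨M, hM, hγ⟩) g
    · rw [hmem, hmem, ← rho_vec hK]
      rcases rho_ind hK hγ with h | h
      · rw [h]; rfl
      · rw [h]
        simp only [Matrix.cons_val]
        constructor
        · rintro ⟨h1, h2⟩
          exact ⟨h1, by rwa [h1, add_zero] at h2⟩
        · rintro ⟨h1, h2⟩
          exact ⟨h1, by rw [h1, h2, add_zero]⟩
    · rw [Set.mem_singleton_iff.1 hM, pow_one, pow_zero, mul_one] at hγ
      rw [hmem, hmem, ← rho_vec hK, (linA_iff hK).1 hγ, R1m_mulVec]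
      simp only [Matrix.cons_val]
      constructor
      · rintro ⟨h1, h2⟩
        exact ⟨by rwa [h1, add_zero] at h2, h1⟩
      · rintro ⟨h1, h2⟩
        exact ⟨h2, by rw [h1, h2, add_zero]⟩
  exact fun γ hγ e he => (hle hγ e).2 he

/-- the standard automizer of `Q_b` leaves `Z₃` invariant -/
theorem inv_b : Inv (Gen IsWb ⊥ : Subgroup (MulAut (Qb K))) (Z3 K) := by
  refine ⟨Z3_le_Qb, ?_⟩
  let T : Subgroup (MulAut (Qb K)) :=
    { carrier := {γ | ∀ g : Qb K, ((γ g : Qb K) : GU K) ∈ Z3 K ↔ (g : GU K) ∈ Z3 K}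
      one_mem' := fun g => Iff.rfl
      mul_mem' := by
        intro γ δ hγ hδ g
        rw [MulAut.mul_apply, hγ, hδ]
      inv_mem' := by
        intro γ hγ g
        rw [← hγ, MulAut.apply_inv_self] }
  have hle : Gen IsWb ⊥ ≤ T := by
    unfold Gen
    rw [Subgroup.closure_le]
    rintro γ ((hγ | hγ) | ⟨d, hd, hγ⟩) g
    · obtain ⟨s, -, hs⟩ := (mem_autInducedBy_iff _ _ _).1 hγ
      have hg : (g : GU K).b = 0 := g.2
      rw [hs g, mem_Z3, mem_Z3, cj_a, cj_b, cj_c, hg]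
      constructor
      · rintro ⟨h1, -, h3⟩
        refine ⟨h1, rfl, ?_⟩
        rwa [h1, mul_zero, mul_zero, zero_add, zero_add] at h3
      · rintro ⟨h1, -, h3⟩
        refine ⟨h1, rfl, ?_⟩
        rw [h1, h3]; ring
    · have hg : (g : GU K).b = 0 := g.2
      have hg' : ((γ g : Qb K) : GU K).b = 0 := (γ g).2
      have hγ' : IsWb γ := hγ
      rw [mem_Z3, mem_Z3, hγ'.a, hγ'.c, hg, hg']
      constructor
      · rintro ⟨h1, -, h3⟩
        exact ⟨h3, rfl, neg_eq_zero.1 h1⟩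
      · rintro ⟨h1, -, h3⟩
        exact ⟨neg_eq_zero.2 h3, rfl, h1⟩
    · rw [Subgroup.mem_bot.1 hd] at hγ
      rw [hγ g]
      rfl
  exact fun γ hγ e he => (hle hγ e).2 he

/-- **The types**: a subgroup which is one of the five candidates, is determined by a few invariants -/
theorem type_cases (hK : HypG K 2 1) {Γ : Subgroup (MulAut (Qa K))}
    (h : Γ = GenR {R1m} ∨ Γ = GenR {R2m} ∨ Γ = GenR {R1m * R2m} ∨ Γ = GenR {R1m * R2m * R2m} ∨ Γ = GenR {R1m, R2m}) :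
    Γ = Ty K 1 0 ∨ Γ = Ty K 0 1 ∨ Γ = Ty K 1 1 ∨ Γ = Ty K 1 2 ∨ (Γ = GenR {R1m, R2m} ∧ 9 ∣ Nat.card Γ) := by
  rw [Ty_10, Ty_01, Ty_11, Ty_12]
  rcases h with h | h | h | h | h
  · exact Or.inl h
  · exact Or.inr (Or.inl h)
  · exact Or.inr (Or.inr (Or.inl h))
  · exact Or.inr (Or.inr (Or.inr (Or.inl h)))
  · refine Or.inr (Or.inr (Or.inr (Or.inr ⟨h, ?_⟩)))
    obtain ⟨γ1, γ2, -, g1, g2, -, -⟩ := exists_pm hK
    subst h
    exact nine_dvd hK g1 g2 (Subgroup.subset_closure (Or.inr ⟨_, by simp, g1⟩))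
      (Subgroup.subset_closure (Or.inr ⟨_, by simp, g2⟩))

/-- a candidate containing a lift of the element of type `(1, 1)` -/
theorem eq_11 (hK : HypG K 2 1) {Γ : Subgroup (MulAut (Qa K))}
    (h : Γ = Ty K 1 0 ∨ Γ = Ty K 0 1 ∨ Γ = Ty K 1 1 ∨ Γ = Ty K 1 2 ∨ (Γ = GenR {R1m, R2m} ∧ 9 ∣ Nat.card Γ))
    (h9 : ¬ 9 ∣ Nat.card Γ) (hle : Ty K 1 1 ≤ Γ) : Γ = Ty K 1 1 := by
  obtain ⟨δ, hδ, hδ'⟩ := exists_mem_Ty hK 1 1
  rcases h with rfl | rfl | h | rfl | ⟨-, h⟩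
  · obtain ⟨γ, hγ, hγ'⟩ := exists_mem_Ty hK 1 0
    exact absurd (nine_dvd' hK hγ' hδ' hγ (hle hδ) (a := 1) (b := 0) (c := 2) (d := 1) rfl rfl rfl rfl) h9
  · obtain ⟨γ, hγ, hγ'⟩ := exists_mem_Ty hK 0 1
    exact absurd (nine_dvd' hK hγ' hδ' hγ (hle hδ) (a := 2) (b := 1) (c := 1) (d := 0) rfl rfl rfl rfl) h9
  · exact h
  · obtain ⟨γ, hγ, hγ'⟩ := exists_mem_Ty hK 1 2
    exact absurd (nine_dvd' hK hγ' hδ' hγ (hle hδ) (a := 2) (b := 2) (c := 1) (d := 2) rfl rfl rfl rfl) h9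
  · exact absurd h h9

/-- a candidate containing a lift of the element of type `(1, 2)` -/
theorem eq_12 (hK : HypG K 2 1) {Γ : Subgroup (MulAut (Qa K))}
    (h : Γ = Ty K 1 0 ∨ Γ = Ty K 0 1 ∨ Γ = Ty K 1 1 ∨ Γ = Ty K 1 2 ∨ (Γ = GenR {R1m, R2m} ∧ 9 ∣ Nat.card Γ))
    (h9 : ¬ 9 ∣ Nat.card Γ) (hle : Ty K 1 2 ≤ Γ) : Γ = Ty K 1 2 := by
  obtain ⟨δ, hδ, hδ'⟩ := exists_mem_Ty hK 1 2
  rcases h with rfl | rfl | rfl | h | ⟨-, h⟩
  · obtain ⟨γ, hγ, hγ'⟩ := exists_mem_Ty hK 1 0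
    exact absurd (nine_dvd' hK hγ' hδ' hγ (hle hδ) (a := 1) (b := 0) (c := 1) (d := 2) rfl rfl rfl rfl) h9
  · obtain ⟨γ, hγ, hγ'⟩ := exists_mem_Ty hK 0 1
    exact absurd (nine_dvd' hK hγ' hδ' hγ (hle hδ) (a := 1) (b := 1) (c := 1) (d := 0) rfl rfl rfl rfl) h9
  · obtain ⟨γ, hγ, hγ'⟩ := exists_mem_Ty hK 1 1
    exact absurd (nine_dvd' hK hγ' hδ' hγ (hle hδ) (a := 2) (b := 2) (c := 2) (d := 1) rfl rfl rfl rfl) h9
  · exact h
  · exact absurd h h9

end

end Cfsg.Agent.H270.GT
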