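import Cfsg.Agent.H270.GT.Five
import Cfsg.Agent.H778.GT.Real
import Cfsg.Agent.H913.GT.Real

/-!
# S5211, `q = 2`: the fusion system of `G₂(2)`; nine does not divide the order of the automizer of `Q_a` (helper270)
-/

set_option autoImplicit false

namespace Cfsg.Agent.H270.GT

open Cfsg Cfsg.FusionSystem Cfsg.Agent.H779.G2 Cfsg.Agent.H756.PU Cfsg.Agent.H103.GT Cfsg.Agent.H802 Cfsg.Agent.H781

universe u

section

variable {K : Type u} [Field K]

local notation "e2" => (Pi.single 2 1 : Fin 8 → K)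
local notation "e3" => (Pi.single 3 1 : Fin 8 → K)
local notation "e5" => (Pi.single 5 1 : Fin 8 → K)
local notation "e6" => (Pi.single 6 1 : Fin 8 → K)

/-- the long root element -/
def zz (K : Type u) [Field K] : GU K := ⟨0, 0, 0, 0, 0, 1⟩

theorem ac_zz (x : Fin 8 → K) : H913.GT.ac (H913.GT.emb (zz K)) x = x + (x 3 • e2 - x 5 • e6) := by
  rw [H913.GT.ac_emb]
  ext i
  fin_cases i <;> simp [zz]
  ring

/-- the centralizer of the long root element preserves the line `⟨e₂, e₆⟩` -/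
theorem cent_line {g : Cfsg.Lie.G2 K} (hg : g * H913.GT.emb (zz K) = H913.GT.emb (zz K) * g) :
    (∃ m n : K, H913.GT.ac g e2 = m • e2 + n • e6) ∧ ∃ m n : K, H913.GT.ac g e6 = m • e2 + n • e6 := by
  have key : ∀ x : Fin 8 → K, H913.GT.ac g (x 3 • e2 - x 5 • e6) =
      (H913.GT.ac g x 3) • e2 - (H913.GT.ac g x 5) • e6 := by
    intro x
    have h1 := H913.GT.ac_mul g (H913.GT.emb (zz K)) x
    rw [hg, H913.GT.ac_mul, ac_zz, ac_zz, H913.GT.ac_add] at h1
    exact (add_left_cancel h1).symm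
  constructor
  · have h1 := key e3
    have e1 : ((e3 : Fin 8 → K) 3 • e2 - (e3 : Fin 8 → K) 5 • e6 : Fin 8 → K) = e2 := by simp
    rw [e1] at h1
    exact ⟨H913.GT.ac g e3 3, -H913.GT.ac g e3 5, by rw [h1, neg_smul, sub_eq_add_neg]⟩
  · have h1 := key (-e5)
    have e1 : ((-e5 : Fin 8 → K) 3 • e2 - (-e5 : Fin 8 → K) 5 • e6 : Fin 8 → K) = e6 := by simp
    rw [e1] at h1
    exact ⟨H913.GT.ac g (-e5) 3, -H913.GT.ac g (-e5) 5, by rw [h1, neg_smul, sub_eq_add_neg]⟩

theorem tor_eq_one (hK : HypG K 2 1) (s t : Kˣ) : H913.GT.tor s t = 1 := by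
  have h1 : ∀ u : Kˣ, u = 1 := fun u => Units.ext ((cases01 hK u).resolve_left u.ne_zero)
  rw [h1 s, h1 t]
  apply H913.GT.ac_ext
  intro x
  rw [H913.GT.ac_tor, H913.GT.ac_one]
  ext i
  fin_cases i <;> simp

/-- the order of the centralizer of a long root element is not divisible by nine -/
theorem not_nine_cent (hK : HypG K 2 1) :
    ¬ 9 ∣ Nat.card (Subgroup.centralizer ({H913.GT.emb (zz K)} : Set (Cfsg.Lie.G2 K))) := by
  classical
  have hfin : Finite K := hK.fin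
  have : Finite (Cfsg.Lie.G2 K) := H913.GT.finite_G2
  have : Fact (Nat.Prime 2) := ⟨Nat.prime_two⟩
  set C := Subgroup.centralizer ({H913.GT.emb (zz K)} : Set (Cfsg.Lie.G2 K)) with hC
  have hCm : ∀ g ∈ C, g * H913.GT.emb (zz K) = H913.GT.emb (zz K) * g := by
    intro g hg
    exact (Subgroup.mem_centralizer_singleton_iff.1 hg)
  let B : Subgroup (Cfsg.Lie.G2 K) :=
    { carrier := {g | g ∈ C ∧ H913.GT.ac g e6 = e6}
      one_mem' := ⟨C.one_mem, H913.GT.ac_one _⟩
      mul_mem' := by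
        rintro a b ⟨h1, h2⟩ ⟨h3, h4⟩
        exact ⟨C.mul_mem h1 h3, by rw [H913.GT.ac_mul, h4, h2]⟩
      inv_mem' := by
        rintro a ⟨h1, h2⟩
        refine ⟨C.inv_mem h1, ?_⟩
        conv_lhs => rw [← h2]
        exact H913.GT.ac_inv_ac a _ }
  have hBC : B ≤ C := fun g hg => hg.1
  have hB : B ≤ (H913.GT.emb : GU K →* Cfsg.Lie.G2 K).range := by
    rintro g ⟨h1, h2⟩
    obtain ⟨⟨m, n, h3⟩, -⟩ := cent_line (hCm g h1)
    obtain ⟨u, s, t, h4⟩ := H913.GT.exists_of_flag (g := g) (m := 1) (n := m) (k := n) (by rw [h2, one_smul]) h3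
    rw [tor_eq_one hK, mul_one] at h4
    exact ⟨u, h4.symm⟩
  have hBp : IsPGroup 2 B := by
    have h1 : IsPGroup 2 (H913.GT.emb : GU K →* Cfsg.Lie.G2 K).range := by
      have h2 : IsPGroup 2 (GU K) := (isP hK).of_equiv Subgroup.topEquiv
      exact h2.of_surjective _ H913.GT.emb.rangeRestrict_surjective
    exact h1.to_le hB
  obtain ⟨k, hk⟩ := IsPGroup.iff_card.1 hBp
  have hidx : B.relIndex C ≤ 3 := by
    -- the orbit map
    let f : C ⧸ B.subgroupOf C → (Fin 8 → K) := Quotient.lift (fun g : C => H913.GT.ac (g : Cfsg.Lie.G2 K) e6) (by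
      intro a b hab
      have h1 : (a : C)⁻¹ * b ∈ B.subgroupOf C := QuotientGroup.leftRel_apply.1 hab
      have h2 : H913.GT.ac ((a : Cfsg.Lie.G2 K)⁻¹ * (b : Cfsg.Lie.G2 K)) e6 = e6 := (Subgroup.mem_subgroupOf.1 h1).2
      show H913.GT.ac (a : Cfsg.Lie.G2 K) e6 = H913.GT.ac (b : Cfsg.Lie.G2 K) e6
      rw [H913.GT.ac_mul] at h2
      conv_lhs => rw [← h2]
      exact H913.GT.ac_ac_inv _ _)
    have hf : ∀ g : C, f (QuotientGroup.mk g) = H913.GT.ac (g : Cfsg.Lie.G2 K) e6 := fun g => rfl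
    have hinj : Function.Injective f := by
      intro a b hab
      obtain ⟨a, rfl⟩ := QuotientGroup.mk_surjective a
      obtain ⟨b, rfl⟩ := QuotientGroup.mk_surjective b
      rw [hf, hf] at hab
      rw [QuotientGroup.eq]
      refine Subgroup.mem_subgroupOf.2 ⟨(a⁻¹ * b).2, ?_⟩
      show H913.GT.ac ((a : Cfsg.Lie.G2 K)⁻¹ * (b : Cfsg.Lie.G2 K)) e6 = e6
      rw [H913.GT.ac_mul, ← hab, H913.GT.ac_inv_ac]
    have hval : ∀ a, f a = e2 ∨ f a = e6 ∨ f a = e2 + e6 := by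
      intro a
      obtain ⟨a, rfl⟩ := QuotientGroup.mk_surjective a
      rw [hf]
      obtain ⟨-, m, n, h3⟩ := cent_line (hCm a a.2)
      rcases cases01 hK m with rfl | rfl <;> rcases cases01 hK n with rfl | rfl
      · exfalso
        rw [zero_smul, zero_smul, add_zero] at h3
        have h0 := H913.GT.ac_smul (a : Cfsg.Lie.G2 K) 0 e6
        rw [zero_smul, zero_smul] at h0
        have h4 := congrFun (H913.GT.ac_injective _ (h3.trans h0.symm)) 6
        simp at h4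
      · right; left
        rw [h3, zero_smul, one_smul, zero_add]
      · left
        rw [h3, zero_smul, one_smul, add_zero]
      · right; right
        rw [h3, one_smul, one_smul]
    let F3 : C ⧸ B.subgroupOf C → ({e2, e6, e2 + e6} : Finset (Fin 8 → K)) := fun a => ⟨f a, by
      rcases hval a with h | h | h <;> rw [h] <;> simp⟩
    have h1 : Nat.card (C ⧸ B.subgroupOf C) ≤ Nat.card ({e2, e6, e2 + e6} : Finset (Fin 8 → K)) :=
      Nat.card_le_card_of_injective F3 (fun a b hab => hinj (congrArg Subtype.val hab))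
    have h2 : Nat.card ({e2, e6, e2 + e6} : Finset (Fin 8 → K)) ≤ 3 := by
      rw [Nat.card_eq_fintype_card, Fintype.card_coe]
      exact Finset.card_le_three
    exact h1.trans h2
  intro h9
  have h1 : Nat.card C = Nat.card B * B.relIndex C := by
    have e1 : Nat.card (B.subgroupOf C) = Nat.card B := Nat.card_congr (Subgroup.subgroupOfEquivOfLe hBC).toEquiv
    rw [← e1, Subgroup.relIndex, Subgroup.card_mul_index]
  rw [h1, hk] at h9
  have h4 : 9 ∣ B.relIndex C := by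
    refine (Nat.Coprime.dvd_of_dvd_mul_left ?_ h9)
    exact Nat.Coprime.pow_right k (by norm_num)
  have h0 : B.relIndex C ≠ 0 := by
    intro h
    rw [h, mul_zero] at h1
    exact Nat.card_pos.ne' h1
  have h5 := Nat.le_of_dvd (Nat.pos_of_ne_zero h0) h4
  omega

/-- **The fusion system of `G₂(2)`.** -/
theorem g22 [Fact (Nat.Prime 2)] (hK : HypG K 2 1) : ∃ F : FusionSystem (⊤ : Subgroup (GU K)), F.IsSaturated 2 ∧
    F.IsRealizable 2 ∧ (∀ γ : MulAut (Qa K), IsWa γ → γ ∈ F.autGroup (Qa K)) ∧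
      (∀ γ : MulAut (Qb K), IsWb γ → γ ∈ F.autGroup (Qb K)) ∧ ¬ 9 ∣ Nat.card (F.autGroup (Qa K)) := by
  have hfin : Finite K := hK.fin
  have hfinG : Finite (Cfsg.Lie.G2 K) := H913.GT.finite_G2
  let ι : (⊤ : Subgroup (GU K)) →* Cfsg.Lie.G2 K := H913.GT.emb.comp (Subgroup.topEquiv (G := GU K)).toMonoidHom
  have hι : ∀ x : (⊤ : Subgroup (GU K)), ι x = H913.GT.emb (x : GU K) := fun x => rfl
  have hinj : Function.Injective ι := H913.GT.emb_injective.comp (Subgroup.topEquiv (G := GU K)).injective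
  have hrange : ι.range = (H913.GT.emb : GU K →* Cfsg.Lie.G2 K).range := by
    ext y
    constructor
    · rintro ⟨x, rfl⟩
      exact ⟨x, rfl⟩
    · rintro ⟨x, rfl⟩
      exact ⟨⟨x, Subgroup.mem_top _⟩, rfl⟩
  have hp : IsPGroup 2 ι.range := (isP hK).of_surjective ι.rangeRestrict ι.rangeRestrict_surjective
  have hidx : ¬ 2 ∣ ι.range.index := by
    rw [hrange]
    exact H913.GT.not_dvd_index hK
  let T : Sylow 2 (Cfsg.Lie.G2 K) := hp.toSylow hidx
  have hT : (T : Subgroup (Cfsg.Lie.G2 K)) = ι.range := rfl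
  have hreal := pullback_isRealizedBy ι hinj
  have haut : ∀ (Q : Subgroup (GU K)) (γ : MulAut Q), γ ∈ (pullback ι hinj).autGroup Q ↔
      ∃ g : Cfsg.Lie.G2 K, ∀ e : Q, H913.GT.emb ((γ e : Q) : GU K) = g * H913.GT.emb (e : GU K) * g⁻¹ := by
    intro Q γ
    rw [H802.mem_autGroup_iff _ le_top]
    constructor
    · rintro ⟨h1, h2, g, hg⟩
      exact ⟨g, fun e => hg e⟩
    · rintro ⟨g, hg⟩
      exact ⟨le_top, fun _ => trivial, g, fun e => hg e⟩
  refine ⟨pullback ι hinj, isSaturated_of_isRealizedBy hreal T hT, ⟨_, inferInstance, hfinG, ι, hreal, T, hT⟩,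
    fun γ hγ => (haut _ _).2 ⟨H913.GT.na, fun e => (H913.GT.na_emb hγ e).symm⟩,
    fun γ hγ => (haut _ _).2 ⟨H913.GT.nb, fun e => (H913.GT.nb_emb hγ e).symm⟩, fun h9 => not_nine_cent hK ?_⟩
  -- the group of pairs
  let D : Subgroup (Cfsg.Lie.G2 K × MulAut (Qa K)) :=
    { carrier := {x | ∀ e : Qa K, H913.GT.emb ((x.2 e : Qa K) : GU K) = x.1 * H913.GT.emb (e : GU K) * x.1⁻¹}
      one_mem' := by
        intro e
        show H913.GT.emb (e : GU K) = 1 * H913.GT.emb (e : GU K) * 1⁻¹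
        rw [one_mul, inv_one, mul_one]
      mul_mem' := by
        intro x y hx hy e
        show H913.GT.emb ((x.2 (y.2 e) : Qa K) : GU K) = x.1 * y.1 * H913.GT.emb (e : GU K) * (x.1 * y.1)⁻¹
        rw [hx, hy, mul_inv_rev]
        simp only [mul_assoc]
      inv_mem' := by
        intro x hx e
        show H913.GT.emb ((x.2⁻¹ e : Qa K) : GU K) = x.1⁻¹ * H913.GT.emb (e : GU K) * x.1⁻¹⁻¹
        have h1 := hx (x.2⁻¹ e)
        rw [MulAut.apply_inv_self] at h1
        rw [h1]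
        group }
  have hfm := finite_mulAut_Qa hK
  have h1 : (pullback ι hinj).autGroup (Qa K) ≤ D.map (MonoidHom.snd _ _) := by
    intro γ hγ
    obtain ⟨g, hg⟩ := (haut _ γ).1 hγ
    exact ⟨(g, γ), hg, rfl⟩
  have h2 : D.map (MonoidHom.fst _ _) ≤ Subgroup.centralizer ({H913.GT.emb (zz K)} : Set (Cfsg.Lie.G2 K)) := by
    rintro _ ⟨x, hx, rfl⟩
    rw [Subgroup.mem_centralizer_singleton_iff]
    have h3 : (⟨zz K, rfl⟩ : Qa K) = x.2 ⟨zz K, rfl⟩ := (fix_Z1 hK x.2 ⟨zz K, rfl⟩ ⟨rfl, rfl, rfl, rfl, rfl⟩).symm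
    have h4 := hx ⟨zz K, rfl⟩
    rw [← h3] at h4
    show x.1 * H913.GT.emb (zz K) = H913.GT.emb (zz K) * x.1
    have h5 : H913.GT.emb (zz K) = x.1 * H913.GT.emb (zz K) * x.1⁻¹ := h4
    conv_rhs => rw [h5]
    rw [inv_mul_cancel_right]
  have h3 : Nat.card (D.map (MonoidHom.fst _ _)) = Nat.card D := by
    refine (Nat.card_congr ?_).symm
    refine Equiv.ofBijective (fun x : D => (⟨x.1.1, x.1, x.2, rfl⟩ : D.map (MonoidHom.fst _ _))) ⟨?_, ?_⟩
    · intro x y hxy
      have e1 : x.1.1 = y.1.1 := congrArg Subtype.val hxy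
      have e2' : x.1.2 = y.1.2 := by
        apply MulEquiv.ext
        intro e
        apply Subtype.ext
        apply H913.GT.emb_injective
        rw [x.2 e, y.2 e, e1]
      exact Subtype.ext (Prod.ext e1 e2')
    · rintro ⟨_, x, hx, rfl⟩
      exact ⟨⟨x, hx⟩, rfl⟩
  calc 9 ∣ Nat.card ((pullback ι hinj).autGroup (Qa K)) := h9
    _ ∣ Nat.card (D.map (MonoidHom.snd _ _)) := Subgroup.card_dvd_of_le h1
    _ ∣ Nat.card D := Subgroup.card_map_dvd _ _
    _ = Nat.card (D.map (MonoidHom.fst _ _)) := h3.symm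
    _ ∣ _ := Subgroup.card_dvd_of_le h2

end

end Cfsg.Agent.H270.GT
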