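import Cfsg.Agent.H103.GT.Main
import Cfsg.Agent.H779.G2.Stmts4

/-!
# S5211, `q = 2`: the action of `Aut(Q_a)` on `Q_a/Z₁ = K⁴` (helper270)
-/

set_option autoImplicit false

namespace Cfsg.Agent.H270.GT

open Cfsg Cfsg.FusionSystem Cfsg.Agent.H779.G2 Cfsg.Agent.H756.PU Cfsg.Agent.H103.GT

universe u

section

variable {K : Type u} [Field K]

theorem cases01 (hK : HypG K 2 1) (x : K) : x = 0 ∨ x = 1 := by
  have h1 : Nat.card K = 2 := by simpa using hK.card
  obtain ⟨y, hy, hy'⟩ := (Nat.card_eq_two_iff' (0 : K)).1 h1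
  by_cases hx : x = 0
  · exact Or.inl hx
  · exact Or.inr ((hy' x hx).trans (hy' 1 one_ne_zero).symm)

theorem h3' (hK : HypG K 2 1) : (3 : K) ≠ 0 := three_ne hK (by decide)

theorem two0 (hK : HypG K 2 1) : (2 : K) = 0 := by
  have := hK.char
  exact_mod_cast (CharP.cast_eq_zero K 2)

theorem three1 (hK : HypG K 2 1) : (3 : K) = 1 := by
  linear_combination two0 hK

theorem sq1 (hK : HypG K 2 1) (x : K) : x ^ 2 = x := by
  rcases cases01 hK x with h | h <;> simp [h]

/-- coordinates on `Q_a/Z₁` -/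
def vec (g : Qa K) : Fin 4 → K := ![(g : GU K).b, (g : GU K).c, (g : GU K).d, (g : GU K).e]

/-- a representative -/
def lift (v : Fin 4 → K) : Qa K := ⟨⟨0, v 0, v 1, v 2, v 3, 0⟩, rfl⟩

theorem vec_lift (v : Fin 4 → K) : vec (lift v) = v := by
  funext i
  fin_cases i <;> rfl

theorem qa_a (g : Qa K) : (g : GU K).a = 0 := g.2

theorem vec_mul (g h : Qa K) : vec (g * h) = vec g + vec h := by
  have h1 := qa_a h
  funext i
  fin_cases i <;> simp [vec, h1]

theorem vec_one : vec (1 : Qa K) = 0 := by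
  funext i
  fin_cases i <;> simp [vec]

theorem vec_inv (g : Qa K) : vec g⁻¹ = - vec g := by
  have h1 := qa_a g
  funext i
  fin_cases i <;> simp [vec, h1]

theorem vec_eq_zero {g : Qa K} : vec g = 0 ↔ (g : GU K) ∈ Z1 K := by
  constructor
  · intro h
    exact ⟨g.2, congrFun h 0, congrFun h 1, congrFun h 2, congrFun h 3⟩
  · rintro ⟨-, h1, h2, h3, h4⟩
    funext i
    fin_cases i
    · exact h1
    · exact h2
    · exact h3
    · exact h4

theorem Z1_pres (hK : HypG K 2 1) (γ : MulAut (Qa K)) (g : Qa K) (hg : (g : GU K) ∈ Z1 K) :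
    ((γ g : Qa K) : GU K) ∈ Z1 K := by
  rw [← cent_Qa (h3' hK)]
  intro z hz
  have h1 := (cent_Qa (h3' hK)).2 hg
  have h2 := h1 (γ.symm ⟨z, hz⟩ : Qa K) (γ.symm ⟨z, hz⟩).2
  have h4 : g * γ.symm ⟨z, hz⟩ = γ.symm ⟨z, hz⟩ * g := Subtype.ext h2
  have h5 := congrArg γ h4
  rw [map_mul, map_mul, MulEquiv.apply_symm_apply] at h5
  exact congrArg Subtype.val h5

theorem vec_app (hK : HypG K 2 1) (γ : MulAut (Qa K)) {g h : Qa K} (e : vec g = vec h) :
    vec (γ g) = vec (γ h) := by
  have h1 : ((h⁻¹ * g : Qa K) : GU K) ∈ Z1 K := by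
    rw [← vec_eq_zero, vec_mul, vec_inv, e, neg_add_cancel]
  have h2 := vec_eq_zero.2 (Z1_pres hK γ _ h1)
  rw [map_mul, vec_mul, map_inv, vec_inv] at h2
  exact (neg_add_eq_zero.1 h2).symm

/-- the permutation of `K⁴` induced by an automorphism of `Q_a` -/
def rho (hK : HypG K 2 1) : MulAut (Qa K) →* Equiv.Perm (Fin 4 → K) where
  toFun γ :=
    { toFun := fun v => vec (γ (lift v))
      invFun := fun v => vec (γ⁻¹ (lift v))
      left_inv := by
        intro v
        have h1 : vec (lift (vec (γ (lift v)))) = vec (γ (lift v)) := vec_lift _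
        show vec (γ⁻¹ (lift (vec (γ (lift v))))) = v
        rw [vec_app hK γ⁻¹ h1, MulAut.inv_apply_self, vec_lift]
      right_inv := by
        intro v
        have h1 : vec (lift (vec (γ⁻¹ (lift v)))) = vec (γ⁻¹ (lift v)) := vec_lift _
        show vec (γ (lift (vec (γ⁻¹ (lift v))))) = v
        rw [vec_app hK γ h1, MulAut.apply_inv_self, vec_lift] }
  map_one' := by
    ext1 v
    exact vec_lift v
  map_mul' := by
    intro γ δ
    ext1 v
    show vec (γ (δ (lift v))) = vec (γ (lift (vec (δ (lift v)))))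
    exact vec_app hK γ (vec_lift _).symm

theorem rho_apply (hK : HypG K 2 1) (γ : MulAut (Qa K)) (v : Fin 4 → K) : rho hK γ v = vec (γ (lift v)) := rfl

theorem rho_vec (hK : HypG K 2 1) (γ : MulAut (Qa K)) (g : Qa K) : rho hK γ (vec g) = vec (γ g) :=
  vec_app hK γ (vec_lift _)

theorem linA_iff (hK : HypG K 2 1) {M : Matrix (Fin 4) (Fin 4) K} {γ : MulAut (Qa K)} :
    LinA M γ ↔ ∀ v, rho hK γ v = M.mulVec v := by
  constructor
  · intro h v
    have h1 : vec (γ (lift v)) = M.mulVec (vec (lift v)) := h (lift v)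
    rw [vec_lift] at h1
    exact h1
  · intro h g
    have h1 := h (vec g)
    rw [rho_vec] at h1
    exact h1

theorem LinA.mul (hK : HypG K 2 1) {M N : Matrix (Fin 4) (Fin 4) K} {γ δ : MulAut (Qa K)} (h : LinA M γ)
    (h' : LinA N δ) : LinA (M * N) (γ * δ) := by
  rw [linA_iff hK] at h h' ⊢
  intro v
  rw [map_mul, Equiv.Perm.mul_apply, h', h, Matrix.mulVec_mulVec]

/-- `Z₁` has two elements, so its elements are fixed -/
theorem fix_Z1 (hK : HypG K 2 1) (γ : MulAut (Qa K)) (g : Qa K) (hg : (g : GU K) ∈ Z1 K) : γ g = g := by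
  have h1 := Z1_pres hK γ g hg
  by_cases h : g = 1
  · rw [h, map_one]
  have key : ∀ x : Qa K, (x : GU K) ∈ Z1 K → x ≠ 1 → (x : GU K) = ⟨0, 0, 0, 0, 0, 1⟩ := by
    rintro x ⟨h1, h2, h3, h4, h5⟩ hx
    rcases cases01 hK (x : GU K).f with h6 | h6
    · exact absurd (Subtype.ext (GU.ext h1 h2 h3 h4 h5 h6)) hx
    · exact GU.ext h1 h2 h3 h4 h5 h6
  apply Subtype.ext
  rw [key _ hg h, key _ h1 (fun hc => h (γ.injective (hc.trans (map_one γ).symm)))]

theorem mem_Z1_sq (hK : HypG K 2 1) {g : Qa K} (hg : (g : GU K) ∈ Z1 K) : g * g = 1 := by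
  obtain ⟨h1, h2, h3, h4, h5⟩ := hg
  apply Subtype.ext
  apply GU.ext <;> simp [h1, h2, h3, h4, h5]
  linear_combination (g : GU K).f * two0 hK

/-- the kernel of `rho` has exponent two -/
theorem ker_rho (hK : HypG K 2 1) {γ : MulAut (Qa K)} (h : rho hK γ = 1) : γ * γ = 1 := by
  apply MulEquiv.ext
  intro g
  have h1 : ((g⁻¹ * γ g : Qa K) : GU K) ∈ Z1 K := by
    rw [← vec_eq_zero, vec_mul, vec_inv, ← rho_vec hK, h, Equiv.Perm.one_apply, neg_add_cancel]
  have h2 := fix_Z1 hK γ _ h1
  have h3 := mem_Z1_sq hK h1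
  rw [map_mul, map_inv] at h2
  have h4 : γ (γ g) = γ g * (g⁻¹ * γ g) := by rw [← h2, mul_inv_cancel_left]
  have h5 : γ g = g * (g⁻¹ * γ g) := by rw [mul_inv_cancel_left]
  rw [MulAut.mul_apply, h4]
  nth_rw 1 [h5]
  rw [mul_assoc, h3, mul_one]
  rfl

/-- an automorphism of order three with a fixed vector has a fixed point outside `Z₁` -/
theorem fix_of_vec (hK : HypG K 2 1) {γ : MulAut (Qa K)} (h : γ ^ 3 = 1) {v : Fin 4 → K} (hv : rho hK γ v = v)
    (hv0 : v ≠ 0) : ∃ g : Qa K, γ g = g ∧ (g : GU K) ∉ Z1 K := by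
  refine ⟨lift v, ?_, fun hc => hv0 ?_⟩
  · have h1 : (((lift v)⁻¹ * γ (lift v) : Qa K) : GU K) ∈ Z1 K := by
      rw [← vec_eq_zero, vec_mul, vec_inv, ← rho_vec hK, vec_lift, hv, neg_add_cancel]
    have h2 := fix_Z1 hK γ _ h1
    have h3 := mem_Z1_sq hK h1
    set z := (lift v)⁻¹ * γ (lift v) with hz
    have e1 : γ (lift v) = lift v * z := by rw [hz, mul_inv_cancel_left]
    have e2 : γ (γ (lift v)) = lift v := by
      rw [e1, map_mul, h2, e1, mul_assoc, h3, mul_one]
    have e3 : γ (γ (γ (lift v))) = lift v := by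
      have := congrArg (fun α : MulAut (Qa K) => α (lift v)) h
      rwa [pow_three] at this
    rw [e2] at e3
    exact e3
  · rw [← vec_lift v]
    exact vec_eq_zero.2 hc

/-! ### the two generating automorphisms of order three -/

theorem R1m_mulVec (v : Fin 4 → K) : (R1m : Matrix (Fin 4) (Fin 4) K).mulVec v =
    ![v 1, v 0 + v 1, v 3, v 2 + v 3] := by
  funext i
  fin_cases i <;> simp [R1m, Matrix.mulVec, dotProduct, Fin.sum_univ_four]

theorem R2m_mulVec (v : Fin 4 → K) : (R2m : Matrix (Fin 4) (Fin 4) K).mulVec v =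
    ![v 2, v 3, v 0 + v 2, v 1 + v 3] := by
  funext i
  fin_cases i <;> simp [R2m, Matrix.mulVec, dotProduct, Fin.sum_univ_four]

theorem exists_R1 (hK : HypG K 2 1) : ∃ γ : MulAut (Qa K), LinA R1m γ := by
  have h2 := two0 hK
  refine ⟨{ toFun := fun g => ⟨⟨0, (g : GU K).c, (g : GU K).b + (g : GU K).c, (g : GU K).e,
              (g : GU K).d + (g : GU K).e, (g : GU K).f⟩, rfl⟩
            invFun := fun g => ⟨⟨0, (g : GU K).b + (g : GU K).c, (g : GU K).b, (g : GU K).d + (g : GU K).e,
              (g : GU K).d, (g : GU K).f⟩, rfl⟩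
            left_inv := ?_
            right_inv := ?_
            map_mul' := ?_ }, ?_⟩
  · intro g
    apply Subtype.ext
    apply GU.ext
    · exact (qa_a g).symm
    · show (g : GU K).c + ((g : GU K).b + (g : GU K).c) = (g : GU K).b
      linear_combination (g : GU K).c * h2
    · rfl
    · show (g : GU K).e + ((g : GU K).d + (g : GU K).e) = (g : GU K).d
      linear_combination (g : GU K).e * h2
    · rfl
    · rfl
  · intro g
    apply Subtype.ext
    apply GU.ext
    · exact (qa_a g).symm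
    · rfl
    · show (g : GU K).b + (g : GU K).c + (g : GU K).b = (g : GU K).c
      linear_combination (g : GU K).b * h2
    · rfl
    · show (g : GU K).d + (g : GU K).e + (g : GU K).d = (g : GU K).e
      linear_combination (g : GU K).d * h2
    · rfl
  · intro g h
    have hh := qa_a h
    apply Subtype.ext
    apply GU.ext
    · simp
    · simp [hh]
    · simp [hh]; ring
    · simp [hh]
    · simp [hh]; ring
    · simp [hh]
      linear_combination (2 * (g : GU K).d * (h : GU K).c - (g : GU K).e * (h : GU K).c -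
        2 * (g : GU K).e * (h : GU K).b) * h2
  · intro g
    show vec _ = R1m.mulVec (vec g)
    rw [R1m_mulVec]
    rfl

theorem exists_R2 (hK : HypG K 2 1) : ∃ γ : MulAut (Qa K), LinA R2m γ := by
  have h2 := two0 hK
  refine ⟨{ toFun := fun g => ⟨⟨0, (g : GU K).d, (g : GU K).e, (g : GU K).b + (g : GU K).d,
              (g : GU K).c + (g : GU K).e,
              (g : GU K).f + (g : GU K).b * (g : GU K).e + (g : GU K).c * (g : GU K).d + (g : GU K).d * (g : GU K).e⟩,
                rfl⟩
            invFun := fun g => ⟨⟨0, (g : GU K).b + (g : GU K).d, (g : GU K).c + (g : GU K).e, (g : GU K).b,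
              (g : GU K).c,
              (g : GU K).f + (g : GU K).b * (g : GU K).c + (g : GU K).c * (g : GU K).d + (g : GU K).b * (g : GU K).e⟩,
                rfl⟩
            left_inv := ?_
            right_inv := ?_
            map_mul' := ?_ }, ?_⟩
  · intro g
    apply Subtype.ext
    apply GU.ext
    · exact (qa_a g).symm
    · show (g : GU K).d + ((g : GU K).b + (g : GU K).d) = (g : GU K).b
      linear_combination (g : GU K).d * h2
    · show (g : GU K).e + ((g : GU K).c + (g : GU K).e) = (g : GU K).c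
      linear_combination (g : GU K).e * h2
    · rfl
    · rfl
    · show (g : GU K).f + (g : GU K).b * (g : GU K).e + (g : GU K).c * (g : GU K).d + (g : GU K).d * (g : GU K).e +
        (g : GU K).d * (g : GU K).e + (g : GU K).e * ((g : GU K).b + (g : GU K).d) +
        (g : GU K).d * ((g : GU K).c + (g : GU K).e) = (g : GU K).f
      linear_combination ((g : GU K).b * (g : GU K).e + (g : GU K).c * (g : GU K).d + 2 * (g : GU K).d * (g : GU K).e) * h2
  · intro g
    apply Subtype.ext
    apply GU.ext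
    · exact (qa_a g).symm
    · rfl
    · rfl
    · show (g : GU K).b + (g : GU K).d + (g : GU K).b = (g : GU K).d
      linear_combination (g : GU K).b * h2
    · show (g : GU K).c + (g : GU K).e + (g : GU K).c = (g : GU K).e
      linear_combination (g : GU K).c * h2
    · show (g : GU K).f + (g : GU K).b * (g : GU K).c + (g : GU K).c * (g : GU K).d + (g : GU K).b * (g : GU K).e +
        ((g : GU K).b + (g : GU K).d) * (g : GU K).c + ((g : GU K).c + (g : GU K).e) * (g : GU K).b +
        (g : GU K).b * (g : GU K).c = (g : GU K).f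
      linear_combination (2 * (g : GU K).b * (g : GU K).c + (g : GU K).c * (g : GU K).d + (g : GU K).b * (g : GU K).e) * h2
  · intro g h
    have hh := qa_a h
    apply Subtype.ext
    apply GU.ext
    · simp
    · simp [hh]
    · simp [hh]
    · simp [hh]; ring
    · simp [hh]; ring
    · simp [hh]
      linear_combination (2 * (g : GU K).d * (h : GU K).c - (g : GU K).b * (h : GU K).e +
        (g : GU K).c * (h : GU K).d - (g : GU K).d * (h : GU K).e + (g : GU K).e * (h : GU K).d) * h2
  · intro g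
    show vec _ = R2m.mulVec (vec g)
    rw [R2m_mulVec]
    rfl

end

end Cfsg.Agent.H270.GT
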