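import Cfsg.Agent.H270.GT.Twist
import Cfsg.Agent.H270.GT.GTwo

/-!
# S5211, `q = 2`: the main case (helper270)

`stMain2 : StE21 → StAut2 → StGa2 → StGb2 → StSw2 → StRM12 → StRG23 → StMain2`
-/

set_option autoImplicit false

namespace Cfsg.Agent.H270.GT

open Cfsg Cfsg.FusionSystem Cfsg.Agent.H779.G2 Cfsg.Agent.H756.PU Cfsg.Agent.H103.GT Cfsg.Agent.H802

universe u

section

variable {K : Type u} [Field K]

theorem par2_of (hK : HypG K 2 1) [Fact (Nat.Prime 2)] {F : FusionSystem (⊤ : Subgroup (GU K))}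
    (hF : F.IsSaturated 2) {Q : Subgroup (GU K)} (hQ : Q = Qa K ∨ Q = Qb K)
    (hnn : ¬ ∀ γ ∈ F.autGroup Q, NormAut ⊤ γ) : Par2 (F.autGroup Q) := by
  have hfin : Finite (GU K) := finite_GU hK
  exact ⟨autInducedBy_le_autGroup F le_top, syl_of_normal (isP hK) hF (top_le_norm Q hQ), hnn⟩

/-- `Aut_F(S) = Inn(S)` -/
theorem AF_eq (hA : StAut2.{u}) (hK : HypG K 2 1) [Fact (Nat.Prime 2)] {F : FusionSystem (⊤ : Subgroup (GU K))}
    (hF : F.IsSaturated 2) : AF F = (MulAut.conj : GU K →* MulAut (GU K)).range := by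
  have hfin : Finite (GU K) := finite_GU hK
  have hfm : Finite (MulAut (GU K)) := Cfsg.Agent.H759.finite_mulAut
  obtain ⟨D, hD, hDe⟩ := Cfsg.Agent.H805.PU.stCompl F (isP hK) hF
  have h1 : IsPGroup 2 D := by
    rintro ⟨d, hd⟩
    obtain ⟨k, hk⟩ := (hA hK).1 d
    exact ⟨k, Subtype.ext hk⟩
  obtain ⟨k, hk⟩ := IsPGroup.iff_card.1 h1
  have h2 : Nat.card D = 1 := by
    rw [hk] at hD ⊢
    rcases Nat.eq_zero_or_pos k with h | h
    · rw [h, pow_zero]
    · exfalso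
      have h3 : 2 ∣ 2 ^ k := dvd_pow_self 2 h.ne'
      have h4 := Nat.dvd_gcd h3 (dvd_refl 2)
      rw [Nat.Coprime.gcd_eq_one hD] at h4
      omega
  rw [← hDe, Subgroup.eq_bot_of_card_eq D h2, sup_bot_eq]

/-- an element of order three excludes the normal case -/
theorem nn_of_three (hA : StAut2.{u}) (hK : HypG K 2 1) [Fact (Nat.Prime 2)] {F : FusionSystem (⊤ : Subgroup (GU K))}
    (hF : F.IsSaturated 2) {Q : Subgroup (GU K)} (hQ : Q = Qa K ∨ Q = Qb K) {γ : MulAut Q} (hγ : γ ∈ F.autGroup Q)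
    (ho : orderOf γ = 3) : ¬ ∀ γ ∈ F.autGroup Q, NormAut ⊤ γ := by
  intro hn
  have hfin : Finite (GU K) := finite_GU hK
  obtain ⟨β, hβ, he⟩ := ext_mem (isP hK) hF (top_le_norm Q hQ) hγ (hn γ hγ)
  obtain ⟨k, hk⟩ := (hA hK).1 β
  have h1 : ∀ (n : ℕ) (e : Q), (((γ ^ n) e : Q) : GU K) = (β ^ n) e := by
    intro n
    induction n with
    | zero => intro e; simp
    | succ n ih =>
      intro e
      rw [pow_succ, pow_succ, MulAut.mul_apply, MulAut.mul_apply, ih, he]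
  have h2 : γ ^ 2 ^ k = 1 := by
    apply MulEquiv.ext
    intro e
    apply Subtype.ext
    rw [h1, hk]
    rfl
  have h3 := orderOf_dvd_of_pow_eq_one h2
  rw [ho] at h3
  exact absurd ((Nat.prime_dvd_prime_iff_eq Nat.prime_three Nat.prime_two).1 (Nat.prime_three.dvd_of_dvd_pow h3))
    (by norm_num)

/-- the normal form -/
structure Nf (F : FusionSystem (⊤ : Subgroup (GU K))) : Prop where
  sat : F.IsSaturated 2
  par : Par2 (F.autGroup (Qa K))
  gb : F.autGroup (Qb K) = Gen IsWb ⊥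

theorem eq_of_same (hE : StE21.{u}) (hA : StAut2.{u}) (hK : HypG K 2 1) [Fact (Nat.Prime 2)]
    {F F' : FusionSystem (⊤ : Subgroup (GU K))} (h : Nf F) (h' : Nf F')
    (e : F.autGroup (Qa K) = F'.autGroup (Qa K)) : F = F' := by
  have hfin : Finite (GU K) := finite_GU hK
  exact fusionSystem_ext (Cfsg.Agent.H546.PU.stSame F F' (Qa K) (Qb K) (isP hK) h.sat h'.sat le_top le_top
    (hE hK F h.sat) (hE hK F' h'.sat) (autGroup_top_eq_of_AF ((AF_eq hA hK h.sat).trans (AF_eq hA hK h'.sat).symm))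
    e (h.gb.trans h'.gb.symm))

/-- the restriction of an automorphism of `GU K` normalizes `Aut_S(Q)` -/
theorem conj_ind {Q : Subgroup (GU K)} {θ : MulAut (GU K)} {r : MulAut Q} (hr : ∀ x : Q, ((r x : Q) : GU K) = θ x)
    {x : MulAut Q} : r * x * r⁻¹ ∈ autInducedBy ⊤ Q ↔ x ∈ autInducedBy ⊤ Q := by
  rw [mem_autInducedBy_iff, mem_autInducedBy_iff]
  constructor
  · rintro ⟨g, -, hg⟩
    refine ⟨θ.symm g, Subgroup.mem_top _, fun y => ?_⟩
    have h1 := hg (r y)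
    rw [MulAut.mul_apply, MulAut.mul_apply, MulAut.inv_apply_self, hr, hr] at h1
    apply θ.injective
    rw [h1, map_mul, map_mul, map_inv, MulEquiv.apply_symm_apply]
  · rintro ⟨g, -, hg⟩
    refine ⟨θ g, Subgroup.mem_top _, fun y => ?_⟩
    rw [MulAut.mul_apply, MulAut.mul_apply, hr, hg, map_mul, map_mul, map_inv, ← hr, MulAut.apply_inv_self]

/-- transport of the non-normality -/
theorem nn_conj {Q : Subgroup (GU K)} {θ : MulAut (GU K)} {r : MulAut Q} (hr : ∀ x : Q, ((r x : Q) : GU K) = θ x)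
    {Γ Γ' : Subgroup (MulAut Q)} (h : ∀ γ, γ ∈ Γ' ↔ r⁻¹ * γ * r ∈ Γ) (hn : ¬ ∀ γ ∈ Γ, NormAut ⊤ γ) :
    ¬ ∀ γ ∈ Γ', NormAut ⊤ γ := by
  intro hc
  apply hn
  intro γ hγ x hx
  have h1 : r * γ * r⁻¹ ∈ Γ' := by
    rw [h]
    have : r⁻¹ * (r * γ * r⁻¹) * r = γ := by group
    rwa [this]
  have h2 := hc _ h1 (r * x * r⁻¹) ((conj_ind hr).2 hx)
  have h3 : r * γ * r⁻¹ * (r * x * r⁻¹) * (r * γ * r⁻¹)⁻¹ = r * (γ * x * γ⁻¹) * r⁻¹ := by group
  rw [h3] at h2
  exact (conj_ind hr).1 h2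

theorem card_conj {A : Type*} [Group A] {r : A} {Γ Γ' : Subgroup A} (h : ∀ γ, γ ∈ Γ' ↔ r⁻¹ * γ * r ∈ Γ) :
    Nat.card Γ' = Nat.card Γ := by
  refine Nat.card_congr
    { toFun := fun γ => ⟨r⁻¹ * γ * r, (h γ).1 γ.2⟩
      invFun := fun γ => ⟨r * γ * r⁻¹, (h _).2 (by
        have : r⁻¹ * (r * (γ : A) * r⁻¹) * r = γ := by group
        rw [this]
        exact γ.2)⟩
      left_inv := fun γ => Subtype.ext (by
        show r * (r⁻¹ * (γ : A) * r) * r⁻¹ = γ
        group)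
      right_inv := fun γ => Subtype.ext (by
        show r⁻¹ * (r * (γ : A) * r⁻¹) * r = γ
        group) }

theorem mem_Gen_eq {Q : Subgroup (GU K)} {W : MulAut Q → Prop} {Γ Γ' : Subgroup (MulAut Q)} {r : MulAut Q}
    (h : ∀ γ, γ ∈ Γ' ↔ r⁻¹ * γ * r ∈ Γ) (h2 : ∀ γ, γ ∈ Gen W ⊥ ↔ r⁻¹ * γ * r ∈ Γ) : Γ' = Gen W ⊥ := by
  ext γ
  rw [h, h2]

/-- every saturated system with both automizers non normal can be brought to the normal form -/
theorem exists_nf (hA : StAut2.{u}) (hGb : StGb2.{u}) (hK : HypG K 2 1) [Fact (Nat.Prime 2)]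
    {F : FusionSystem (⊤ : Subgroup (GU K))} (hF : F.IsSaturated 2)
    (na : ¬ ∀ γ ∈ F.autGroup (Qa K), NormAut ⊤ γ) (nb : ¬ ∀ γ ∈ F.autGroup (Qb K), NormAut ⊤ γ) :
    ∃ (F' : FusionSystem (⊤ : Subgroup (GU K))) (r : MulAut (Qa K)), Nf F' ∧ (F.core = ⊥ → F'.core = ⊥) ∧
      (F.IsRealizable 2 ↔ F'.IsRealizable 2) ∧
      ∀ γ : MulAut (Qa K), γ ∈ F'.autGroup (Qa K) ↔ r⁻¹ * γ * r ∈ F.autGroup (Qa K) := by
  have hfin : Finite (GU K) := finite_GU hK
  obtain ⟨θ, hθ⟩ := hGb hK _ (par2_of hK hF (Or.inr rfl) nb)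
  obtain ⟨F', hF', hcore, hreal, haut⟩ := exists_twist F θ hF
  obtain ⟨ra, hra⟩ := exists_res ((hA hK).2 θ).1
  obtain ⟨rb, hrb⟩ := exists_res ((hA hK).2 θ).2
  have ha := haut (Qa K) ra hra
  have hb := haut (Qb K) rb hrb
  refine ⟨F', ra, ⟨hF', par2_of hK hF' (Or.inl rfl) (nn_conj hra ha na), ?_⟩, hcore, hreal, ha⟩
  exact mem_Gen_eq hb ((conjOn_iff hrb).1 hθ)

/-- swapping the two diagonal types -/
theorem exists_swap (hA : StAut2.{u}) (hK : HypG K 2 1) [Fact (Nat.Prime 2)]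
    {F : FusionSystem (⊤ : Subgroup (GU K))} (h : Nf F) {Γ' : Subgroup (MulAut (Qa K))} {θ : MulAut (GU K)}
    (h1 : ConjOn θ (Gen IsWb ⊥ : Subgroup (MulAut (Qb K))) (Gen IsWb ⊥))
    (h2 : ConjOn θ (F.autGroup (Qa K)) Γ') :
    ∃ F' : FusionSystem (⊤ : Subgroup (GU K)), Nf F' ∧ (F.IsRealizable 2 ↔ F'.IsRealizable 2) ∧
      F'.autGroup (Qa K) = Γ' := by
  have hfin : Finite (GU K) := finite_GU hK
  obtain ⟨F', hF', -, hreal, haut⟩ := exists_twist F θ h.sat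
  obtain ⟨ra, hra⟩ := exists_res ((hA hK).2 θ).1
  obtain ⟨rb, hrb⟩ := exists_res ((hA hK).2 θ).2
  have ha := haut (Qa K) ra hra
  have hb := haut (Qb K) rb hrb
  refine ⟨F', ⟨hF', par2_of hK hF' (Or.inl rfl) (nn_conj hra ha h.par.nn), ?_⟩, hreal, ?_⟩
  · rw [h.gb] at hb
    exact mem_Gen_eq hb ((conjOn_iff hrb).1 h1)
  · ext γ
    rw [ha, (conjOn_iff hra).1 h2 γ]

theorem three_dvd_exists {A : Type*} [Group A] [Finite A] {Γ : Subgroup A} (h : 3 ∣ Nat.card Γ) :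
    ∃ γ ∈ Γ, orderOf γ = 3 := by
  have : Fact (Nat.Prime 3) := ⟨Nat.prime_three⟩
  obtain ⟨x, hx⟩ := exists_prime_orderOf_dvd_card' 3 h
  exact ⟨x, x.2, by rw [Subgroup.orderOf_coe]; exact hx⟩

/-- `G₂(2)` -/
theorem model_G2 (hA : StAut2.{u}) (hGa : StGa2.{u}) (hGb : StGb2.{u}) (hSw : StSw2.{u})
    (hK : HypG K 2 1) [Fact (Nat.Prime 2)] :
    ∃ F : FusionSystem (⊤ : Subgroup (GU K)), Nf F ∧ F.IsRealizable 2 ∧ F.autGroup (Qa K) = Gen IsWa ⊥ := by
  have hfin : Finite K := hK.fin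
  have hfinG : Finite (GU K) := finite_GU hK
  have hfa := finite_mulAut_Qa hK
  have hfb : Finite (MulAut (Qb K)) := Cfsg.Agent.H759.finite_mulAut
  obtain ⟨F, hF, hR, hwa, hwb, h9⟩ := g22 hK
  obtain ⟨na, nb⟩ := weyl_norm hK hwa hwb
  have pa := par2_of hK hF (Or.inl rfl) na
  have pb := par2_of hK hF (Or.inr rfl) nb
  have la : Gen IsWa ⊥ ≤ F.autGroup (Qa K) := by
    unfold Gen
    rw [Subgroup.closure_le]
    rintro γ ((hγ | hγ) | ⟨d, hd, hγ⟩)
    · exact pa.indu hγ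
    · exact hwa γ hγ
    · have : γ = 1 := by
        apply MulEquiv.ext
        intro e
        apply Subtype.ext
        rw [hγ e, Subgroup.mem_bot.1 hd]
        rfl
      rw [this]
      exact one_mem _
  have lb : Gen IsWb ⊥ ≤ F.autGroup (Qb K) := by
    unfold Gen
    rw [Subgroup.closure_le]
    rintro γ ((hγ | hγ) | ⟨d, hd, hγ⟩)
    · exact pb.indu hγ
    · exact hwb γ hγ
    · have : γ = 1 := by
        apply MulEquiv.ext
        intro e
        apply Subtype.ext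
        rw [hγ e, Subgroup.mem_bot.1 hd]
        rfl
      rw [this]
      exact one_mem _
  have hb : F.autGroup (Qb K) = Gen IsWb ⊥ := by
    obtain ⟨θ, hθ⟩ := hGb hK _ pb
    obtain ⟨rb, hrb⟩ := exists_res ((hA hK).2 θ).2
    have h1 := card_conj ((conjOn_iff hrb).1 hθ)
    exact (Subgroup.eq_of_le_of_card_ge lb h1.ge).symm
  refine ⟨F, ⟨hF, pa, hb⟩, hR, ?_⟩
  have ht := type_cases hK (hGa hK _ pa)
  rcases (hSw hK).2 with h | h
  · rw [← Ty_11] at h
    rw [h] at la ⊢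
    exact eq_11 hK ht h9 la
  · rw [← Ty_12] at h
    rw [h] at la ⊢
    exact eq_12 hK ht h9 la

/-- `M₁₂` -/
theorem model_M12 (hA : StAut2.{u}) (hGa : StGa2.{u}) (hGb : StGb2.{u}) (hM : StRM12.{u}) (hE : StE21.{u})
    (hK : HypG K 2 1) [Fact (Nat.Prime 2)] :
    ∃ F : FusionSystem (⊤ : Subgroup (GU K)), Nf F ∧ F.IsRealizable 2 ∧ F.autGroup (Qa K) = Ty K 0 1 := by
  have hfinG : Finite (GU K) := finite_GU hK
  obtain ⟨F, hF, hR, hcore, hcard, ⟨γ, hγ, ho, hfix⟩, nb⟩ := hM hK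
  have na := nn_of_three hA hK hF (Or.inl rfl) hγ ho
  obtain ⟨F', r, hn, hc', hR', ha⟩ := exists_nf hA hGb hK hF na nb
  refine ⟨F', hn, hR'.1 hR, ?_⟩
  have hcard' : Nat.card (F'.autGroup (Qa K)) = 96 := (card_conj ha).trans hcard
  -- the transported element
  have hγ' : r * γ * r⁻¹ ∈ F'.autGroup (Qa K) := by
    rw [ha]
    have : r⁻¹ * (r * γ * r⁻¹) * r = γ := by group
    rwa [this]
  have h3 : (r * γ * r⁻¹) ^ 3 = 1 := by
    rw [conj_pow, ← ho, pow_orderOf_eq_one, mul_one, mul_inv_cancel]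
  have hfix' : ∀ g : Qa K, (r * γ * r⁻¹) g = g → (g : GU K) ∈ Z1 K := by
    intro g hg
    have h1 : γ (r⁻¹ g) = r⁻¹ g := by
      have := congrArg (fun y => r⁻¹ y) hg
      simpa [MulAut.mul_apply] using this
    have h2 := Z1_pres hK r _ (hfix _ h1)
    rwa [MulAut.apply_inv_self] at h2
  have hno : ¬ ∃ v, v ≠ 0 ∧ rho hK (r * γ * r⁻¹) v = v := by
    rintro ⟨v, hv, hv'⟩
    obtain ⟨g, hg, hg'⟩ := fix_of_vec hK h3 hv' hv
    exact hg' (hfix' g hg)
  rcases type_cases hK (hGa hK _ hn.par) with h | h | h | h | ⟨-, h⟩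
  · exfalso
    have h1 : Inv (F'.autGroup (Qa K)) (Z3 K) := h ▸ inv_10 hK
    have h2 : Inv (F'.autGroup (Qb K)) (Z3 K) := hn.gb ▸ inv_b
    refine core_contra (isP hK) hn.sat (hc' hcore) (hE hK F' hn.sat) Z3_ne h1 h2 ⟨le_top, fun δ hδ e he => ?_⟩
    have h3 : MulAut.congr Subgroup.topEquiv δ ∈ AF F' := ⟨δ, hδ, rfl⟩
    rw [AF_eq hA hK hn.sat] at h3
    obtain ⟨g, hg⟩ := h3
    have h4 : ((δ e : (⊤ : Subgroup (GU K))) : GU K) = g * e * g⁻¹ := by
      have : MulAut.congr Subgroup.topEquiv δ (e : GU K) = MulAut.conj g e := by rw [hg]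
      exact this
    rw [h4]
    have hnz : (Z3 K).Normal := inferInstance
    exact hnz.conj_mem _ he g
  · exact h
  · rw [h] at hγ'
    exact absurd (fixed_11 hK hγ') hno
  · rw [h] at hγ'
    exact absurd (fixed_12 hK hγ') hno
  · rw [hcard'] at h
    norm_num at h

/-- `G₂(3)` -/
theorem model_G23 (hA : StAut2.{u}) (hGa : StGa2.{u}) (hGb : StGb2.{u}) (hG : StRG23.{u})
    (hK : HypG K 2 1) [Fact (Nat.Prime 2)] :
    ∃ F : FusionSystem (⊤ : Subgroup (GU K)), Nf F ∧ F.IsRealizable 2 ∧ F.autGroup (Qa K) = GenR {R1m, R2m} := by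
  have hfinG : Finite (GU K) := finite_GU hK
  have hfa := finite_mulAut_Qa hK
  obtain ⟨F, hF, hR, hcard, nb⟩ := hG hK
  obtain ⟨γ, hγ, ho⟩ := three_dvd_exists (Γ := F.autGroup (Qa K)) (by rw [hcard]; norm_num)
  have na := nn_of_three hA hK hF (Or.inl rfl) hγ ho
  obtain ⟨F', r, hn, hc', hR', ha⟩ := exists_nf hA hGb hK hF na nb
  refine ⟨F', hn, hR'.1 hR, ?_⟩
  have hcard' : Nat.card (F'.autGroup (Qa K)) = 288 := (card_conj ha).trans hcard
  have h9 : 9 ∣ Nat.card (F'.autGroup (Qa K)) := by rw [hcard']; norm_num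
  rcases type_cases hK (hGa hK _ hn.par) with h | h | h | h | ⟨h, -⟩
  · rw [h] at h9; exact absurd h9 (not_nine_Ty hK 1 0)
  · rw [h] at h9; exact absurd h9 (not_nine_Ty hK 0 1)
  · rw [h] at h9; exact absurd h9 (not_nine_Ty hK 1 1)
  · rw [h] at h9; exact absurd h9 (not_nine_Ty hK 1 2)
  · exact h

end

/-- **(MAIN)** `q = 2` -/
theorem stMain2 (hE : StE21.{u}) (hA : StAut2.{u}) (hGa : StGa2.{u}) (hGb : StGb2.{u}) (hSw : StSw2.{u})
    (hM : StRM12.{u}) (hG : StRG23.{u}) : StMain2.{u} := by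
  intro K _ p n hp hK hpn F hF hcore
  obtain ⟨rfl, rfl⟩ := hpn
  have hfin : Finite K := hK.fin
  have hfinG : Finite (GU K) := finite_GU hK
  have hS := isP hK
  have hess := hE hK F hF
  by_cases hEa : F.IsEssential 2 (Qa K)
  · by_cases hEb : F.IsEssential 2 (Qb K)
    · obtain ⟨F1, r, h1, hc1, hR1, -⟩ := exists_nf hA hGb hK hF (norm_of_ess hK hF hEa) (norm_of_ess hK hF hEb)
      rw [hR1]
      have hcore1 := hc1 hcore
      rcases type_cases hK (hGa hK _ h1.par) with h | h | h | h | ⟨h, -⟩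
      · exfalso
        have i1 : Inv (F1.autGroup (Qa K)) (Z3 K) := h ▸ inv_10 hK
        have i2 : Inv (F1.autGroup (Qb K)) (Z3 K) := h1.gb ▸ inv_b
        refine core_contra hS h1.sat hcore1 (hE hK F1 h1.sat) Z3_ne i1 i2 ⟨le_top, fun δ hδ e he => ?_⟩
        have h3 : MulAut.congr Subgroup.topEquiv δ ∈ AF F1 := ⟨δ, hδ, rfl⟩
        rw [AF_eq hA hK h1.sat] at h3
        obtain ⟨g, hg⟩ := h3
        have h4 : ((δ e : (⊤ : Subgroup (GU K))) : GU K) = g * e * g⁻¹ := by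
          have : MulAut.congr Subgroup.topEquiv δ (e : GU K) = MulAut.conj g e := by rw [hg]
          exact this
        rw [h4]
        have hnz : (Z3 K).Normal := inferInstance
        exact hnz.conj_mem _ he g
      · obtain ⟨F2, h2, hR2, ha2⟩ := model_M12 hA hGa hGb hM hE hK
        rw [eq_of_same hE hA hK h1 h2 (h.trans ha2.symm)]
        exact hR2
      · obtain ⟨F2, h2, hR2, ha2⟩ := model_G2 hA hGa hGb hSw hK
        rcases (hSw hK).2 with hw | hw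
        · rw [eq_of_same hE hA hK h1 h2 (h.trans (Ty_11.trans (hw.symm.trans ha2.symm)))]
          exact hR2
        · obtain ⟨⟨θ, t1, t2, t3⟩, -⟩ := hSw hK
          rw [← Ty_11, ← h] at t2
          obtain ⟨F3, h3, hR3, ha3⟩ := exists_swap hA hK h1 t1 t2
          rw [hR3, eq_of_same hE hA hK h3 h2 (ha3.trans (hw.symm.trans ha2.symm))]
          exact hR2
      · obtain ⟨F2, h2, hR2, ha2⟩ := model_G2 hA hGa hGb hSw hK
        rcases (hSw hK).2 with hw | hw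
        · obtain ⟨⟨θ, t1, t2, t3⟩, -⟩ := hSw hK
          rw [← Ty_12, ← h] at t3
          obtain ⟨F3, h3, hR3, ha3⟩ := exists_swap hA hK h1 t1 t3
          rw [hR3, eq_of_same hE hA hK h3 h2 (ha3.trans (hw.symm.trans ha2.symm))]
          exact hR2
        · rw [eq_of_same hE hA hK h1 h2 (h.trans (Ty_12.trans (hw.symm.trans ha2.symm)))]
          exact hR2
      · obtain ⟨F2, h2, hR2, ha2⟩ := model_G23 hA hGa hGb hG hK
        rw [eq_of_same hE hA hK h1 h2 (h.trans ha2.symm)]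
        exact hR2
    · refine Cfsg.Agent.H546.PU.stCon F (Qa K) hS hF le_top (top_le_norm _ (Or.inl rfl)) ?_ ?_
        (inv_top_of_char fun α => ((hA hK).2 α).1)
      · intro x hx
        refine Z1_le_Qa ((cent_Qa (h3' hK)).1 fun z hz => ?_)
        exact (Subgroup.mem_centralizer_iff.1 hx.2 z hz).symm
      · intro E hE'
        exact (hess E hE').resolve_right (by rintro rfl; exact hEb hE')
  · refine Cfsg.Agent.H546.PU.stCon F (Qb K) hS hF le_top (top_le_norm _ (Or.inr rfl)) ?_ ?_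
      (inv_top_of_char fun α => ((hA hK).2 α).2)
    · intro x hx
      refine Z2_le_Qb ((cent_Qb (h3' hK)).1 fun z hz => ?_)
      exact (Subgroup.mem_centralizer_iff.1 hx.2 z hz).symm
    · intro E hE'
      exact (hess E hE').resolve_left (by rintro rfl; exact hEa hE')

end Cfsg.Agent.H270.GT
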