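import Cfsg.Agent.H103.GT.Main
import Cfsg.Agent.H779.G2.Stmts4

/-!
# S5211, `q = 2`: twisting a fusion system over `GU K` by an automorphism (helper270)
-/

set_option autoImplicit false

namespace Cfsg.Agent.H270.GT

open Cfsg Cfsg.FusionSystem Cfsg.Agent.H779.G2 Cfsg.Agent.H756.PU Cfsg.Agent.H759

universe u

/-! ### pushing along an automorphism -/

section

variable {G0 : Type u} [Group G0]

/-- membership in an automizer only depends on the underlying maps -/
theorem mem_aut_congr {S : Subgroup G0} {F : FusionSystem S} {P Q : Subgroup G0} (h : P = Q) (α : MulAut P)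
    (β : MulAut Q) (hαβ : ∀ (x : P) (y : Q), (x : G0) = y → ((α x : P) : G0) = (β y : Q)) :
    α ∈ F.autGroup P ↔ β ∈ F.autGroup Q := by
  subst h
  have : α = β := by
    ext x
    exact hαβ x x rfl
  rw [this]

/-- pushing along `θ` and then along `θ⁻¹` -/
theorem isPush_symm {F F' : FusionSystem (⊤ : Subgroup G0)} {θ : MulAut G0}
    {hθ : Function.Injective θ.toMonoidHom} (hθ' : Function.Injective (θ⁻¹ : MulAut G0).toMonoidHom)
    (h : IsPush hθ F F') : IsPush hθ' F' F := by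
  refine ⟨(Subgroup.map_top_of_surjective _ (θ⁻¹ : MulAut G0).surjective).symm, fun P' φ' => ?_⟩
  -- `P' = θ(P)`
  obtain ⟨P, hP⟩ : ∃ P : Subgroup G0, P' = P.map θ.toMonoidHom :=
    exists_eq_map (f := θ.toMonoidHom) (by rw [MonoidHom.range_eq_top.2 θ.surjective]; exact le_top)
  subst hP
  obtain ⟨φ, rfl⟩ := exists_eq_cb hθ φ' (fun y => by
    rw [MonoidHom.range_eq_top.2 θ.surjective]
    exact Subgroup.mem_top _)
  rw [h.hom]
  have hback : (P.map θ.toMonoidHom).map (θ⁻¹ : MulAut G0).toMonoidHom = P := by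
    rw [Subgroup.map_map]
    have : (θ⁻¹ : MulAut G0).toMonoidHom.comp θ.toMonoidHom = MonoidHom.id _ := by
      ext x
      show θ⁻¹ (θ x) = x
      exact MulAut.inv_apply_self _ _ _
    rw [this, Subgroup.map_id]
  -- the two maps agree
  have key : ∀ (Q : Subgroup G0) (hQ : Q = P) (ψ : Q →* G0), (∀ (x : Q) (y : P), (x : G0) = y → ψ x = φ y) →
      (ψ ∈ F.Hom Q ↔ φ ∈ F.Hom P) := by
    intro Q hQ ψ hψ
    subst hQ
    have : ψ = φ := by
      ext x
      exact hψ x x rfl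
    rw [this]
  refine key _ hback _ fun x y hxy => ?_
  obtain ⟨z, rfl⟩ := (eqv hθ' (P.map θ.toMonoidHom)).surjective x
  obtain ⟨w, rfl⟩ := (eqv hθ P).surjective z
  rw [cb_eqv, cb_eqv]
  have h1 : (w : G0) = y := by
    rw [← hxy]
    show (w : G0) = θ⁻¹ (θ w)
    exact (MulAut.inv_apply_self _ _ _).symm
  have h2 : w = y := Subtype.ext h1
  subst h2
  show θ⁻¹ (θ (φ w)) = φ w
  exact MulAut.inv_apply_self _ _ _

/-- the automizer of an invariant subgroup in the pushed system -/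
theorem mem_aut_push {F F' : FusionSystem (⊤ : Subgroup G0)} {θ : MulAut G0}
    {hθ : Function.Injective θ.toMonoidHom} (h : IsPush hθ F F') {Q : Subgroup G0}
    (r : MulAut Q) (hr : ∀ x : Q, ((r x : Q) : G0) = θ x) (γ : MulAut Q) :
    γ ∈ F'.autGroup Q ↔ r⁻¹ * γ * r ∈ F.autGroup Q := by
  have hQ : Q.map θ.toMonoidHom = Q := by
    ext y
    constructor
    · rintro ⟨x, hx, rfl⟩
      have := (r ⟨x, hx⟩).2
      rwa [hr] at this
    · intro hy
      refine ⟨(r⁻¹ ⟨y, hy⟩ : Q), (r⁻¹ ⟨y, hy⟩).2, ?_⟩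
      have h1 := hr (r⁻¹ ⟨y, hy⟩)
      rw [MulAut.apply_inv_self] at h1
      exact h1.symm
  rw [← h.mem_autGroup_iff]
  refine (mem_aut_congr hQ _ _ fun x y hxy => ?_).symm
  obtain ⟨w, rfl⟩ := (eqv hθ Q).surjective x
  rw [coe_ca_apply]
  have h1 : r w = y := Subtype.ext (by rw [hr]; exact hxy)
  subst h1
  show θ ((r⁻¹ * γ * r) w : Q) = (γ (r w) : Q)
  rw [← hr, MulAut.mul_apply, MulAut.mul_apply, MulAut.apply_inv_self]

end

/-! ### the twist -/

section

variable {K : Type u} [Field K]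

/-- `ConjOn` in terms of the restriction of `θ` -/
theorem conjOn_iff {Q : Subgroup (GU K)} {θ : MulAut (GU K)} {r : MulAut Q}
    (hr : ∀ x : Q, ((r x : Q) : GU K) = θ x) {Γ Γ' : Subgroup (MulAut Q)} :
    ConjOn θ Γ Γ' ↔ ∀ γ : MulAut Q, γ ∈ Γ' ↔ r⁻¹ * γ * r ∈ Γ := by
  have key : ∀ γ : MulAut Q, (∃ δ ∈ Γ, ∀ g g' : Q, (g' : GU K) = θ g → θ ((δ g : Q) : GU K) = (γ g' : Q)) ↔
      r⁻¹ * γ * r ∈ Γ := by
    intro γ
    constructor
    · rintro ⟨δ, hδ, h⟩
      have h1 : r⁻¹ * γ * r = δ := by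
        apply MulEquiv.ext
        intro x
        have h2 := h x (r x) (hr x)
        rw [← hr] at h2
        have h3 : r (δ x) = γ (r x) := Subtype.ext h2
        rw [MulAut.mul_apply, MulAut.mul_apply, ← h3, MulAut.inv_apply_self]
      rwa [h1]
    · intro hγ
      refine ⟨_, hγ, fun g g' hg => ?_⟩
      have h1 : r g = g' := Subtype.ext (by rw [hr]; exact hg.symm)
      subst h1
      rw [← hr, MulAut.mul_apply, MulAut.mul_apply, MulAut.apply_inv_self]
  constructor
  · intro h γ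
    rw [h γ, key]
  · intro h γ
    rw [h γ, key]

/-- the restriction of `θ` to an invariant subgroup -/
theorem exists_res {Q : Subgroup (GU K)} {θ : MulAut (GU K)} (hQ : Q.map θ.toMonoidHom = Q) :
    ∃ r : MulAut Q, ∀ x : Q, ((r x : Q) : GU K) = θ x :=
  ⟨(θ.subgroupMap Q).trans (MulEquiv.subgroupCongr hQ), fun _ => rfl⟩

/-- **The twist** of a saturated system by an automorphism of `GU K`. -/
theorem exists_twist [Finite (GU K)] [Fact (Nat.Prime 2)] (F : FusionSystem (⊤ : Subgroup (GU K)))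
    (θ : MulAut (GU K)) (hF : F.IsSaturated 2) :
    ∃ F' : FusionSystem (⊤ : Subgroup (GU K)), F'.IsSaturated 2 ∧ (F.core = ⊥ → F'.core = ⊥) ∧
      (F.IsRealizable 2 ↔ F'.IsRealizable 2) ∧
      ∀ (Q : Subgroup (GU K)) (r : MulAut Q), (∀ x : Q, ((r x : Q) : GU K) = θ x) →
        ∀ γ : MulAut Q, γ ∈ F'.autGroup Q ↔ r⁻¹ * γ * r ∈ F.autGroup Q := by
  have hinj : Function.Injective θ.toMonoidHom := θ.injective
  have hinj' : Function.Injective (θ⁻¹ : MulAut (GU K)).toMonoidHom := (θ⁻¹ : MulAut (GU K)).injective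
  have htop : (⊤ : Subgroup (GU K)) = (⊤ : Subgroup (GU K)).map θ.toMonoidHom :=
    (Subgroup.map_top_of_surjective _ θ.surjective).symm
  obtain ⟨F', hF'⟩ := exists_push' (hf := hinj) htop F
  refine ⟨F', hF'.isSaturated_iff.2 hF, ?_, ⟨H776.Co.isRealizable_push hF',
    H776.Co.isRealizable_push (isPush_symm hinj' hF')⟩, fun Q r hr γ => mem_aut_push hF' r hr γ⟩
  intro hcore
  rw [hF'.core_eq, hcore, Subgroup.map_bot]

end

end Cfsg.Agent.H270.GT
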