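import Cfsg.Agent.H270.GT.Lin

/-!
# S5211, `q = 2`: the five candidates for `Aut_F(Q_a)` (helper270)
-/

set_option autoImplicit false

namespace Cfsg.Agent.H270.GT

open Cfsg Cfsg.FusionSystem Cfsg.Agent.H779.G2 Cfsg.Agent.H756.PU Cfsg.Agent.H103.GT Cfsg.Agent.H802

universe u

/-! ### abstract lemmas -/

section

variable {P : Type*} [Group P]

/-- two commuting independent elements of order three -/
theorem nine_of [Finite P] {a b : P} (ha : a ^ 3 = 1) (hb : b ^ 3 = 1) (hab : a * b = b * a) (h1 : a ≠ 1)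
    (h2 : b ≠ 1) (h3 : a ≠ b) (h4 : a * b ≠ 1) {R : Subgroup P} (haR : a ∈ R) (hbR : b ∈ R) : 9 ∣ Nat.card R := by
  have hp3 : Fact (Nat.Prime 3) := ⟨Nat.prime_three⟩
  have hz : ∀ c : P, c ^ 3 = 1 → IsPGroup 3 (Subgroup.zpowers c) := by
    rintro c hc ⟨x, k, rfl⟩
    refine ⟨1, Subtype.ext ?_⟩
    show (c ^ k) ^ (3 ^ 1) = 1
    rw [pow_one, ← zpow_natCast, ← zpow_mul, mul_comm, zpow_mul]
    have : c ^ ((3 : ℕ) : ℤ) = 1 := by rw [zpow_natCast, hc]
    rw [this, one_zpow]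
  have hn : Subgroup.zpowers b ≤ Subgroup.normalizer ((Subgroup.zpowers a : Subgroup P) : Set P) := by
    rw [Subgroup.zpowers_le, Subgroup.mem_normalizer_iff]
    have hc : Commute b a := hab.symm
    have key : ∀ x ∈ Subgroup.zpowers a, b * x * b⁻¹ = x := by
      rintro x ⟨k, rfl⟩
      have : Commute b (a ^ k) := hc.zpow_right k
      show b * a ^ k * b⁻¹ = a ^ k
      rw [this.eq, mul_inv_cancel_right]
    intro x
    constructor
    · intro hx
      rw [key x hx]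
      exact hx
    · intro hx
      have h5 := key _ hx
      have h6 : b * x * b⁻¹ = x := by
        have := congrArg (fun y => b⁻¹ * y * b) h5
        simp only [mul_assoc, inv_mul_cancel, mul_one, inv_mul_cancel_left] at this
        simpa [mul_assoc] using this
      rwa [h6] at hx
  have hA : IsPGroup 3 (Subgroup.zpowers a ⊔ Subgroup.zpowers b : Subgroup P) :=
    (hz a ha).to_sup_of_normal_left' (hz b hb) hn
  obtain ⟨k, hk⟩ := IsPGroup.iff_card.1 hA
  have hAR : Subgroup.zpowers a ⊔ Subgroup.zpowers b ≤ R :=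
    sup_le (Subgroup.zpowers_le.2 haR) (Subgroup.zpowers_le.2 hbR)
  have haA : a ∈ Subgroup.zpowers a ⊔ Subgroup.zpowers b := Subgroup.mem_sup_left (Subgroup.mem_zpowers a)
  have hbA : b ∈ Subgroup.zpowers a ⊔ Subgroup.zpowers b := Subgroup.mem_sup_right (Subgroup.mem_zpowers b)
  have h4' : 4 ≤ Nat.card (Subgroup.zpowers a ⊔ Subgroup.zpowers b : Subgroup P) := by
    let f : Fin 4 → (Subgroup.zpowers a ⊔ Subgroup.zpowers b : Subgroup P) :=
      ![1, ⟨a, haA⟩, ⟨b, hbA⟩, ⟨a * b, mul_mem haA hbA⟩]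
    have hf : Function.Injective f := by
      intro i j hij
      have hij' := congrArg Subtype.val hij
      fin_cases i <;> fin_cases j <;> simp [f] at hij' ⊢
      · exact h1 hij'.symm
      · exact h2 hij'.symm
      · exact h4 hij'.symm
      · exact h1 hij'
      · exact h3 hij'
      · exact h2 hij'
      · exact h2 hij'
      · exact h3 hij'.symm
      · exact h1 hij'
      · exact h4 hij'
      · exact h2 hij'
      · exact h1 hij'
    have := Nat.card_le_card_of_injective f hf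
    simpa using this
  have hk2 : 2 ≤ k := by
    by_contra hcon
    have : k ≤ 1 := by omega
    have h5 : 3 ^ k ≤ 3 ^ 1 := Nat.pow_le_pow_right (by norm_num) this
    omega
  calc 9 ∣ 3 ^ k := by
        have : 3 ^ 2 ∣ 3 ^ k := pow_dvd_pow 3 hk2
        simpa using this
    _ = Nat.card (Subgroup.zpowers a ⊔ Subgroup.zpowers b : Subgroup P) := hk.symm
    _ ∣ Nat.card R := Subgroup.card_dvd_of_le hAR

/-- the group generated by `m`, `x` with `m³ = x² = 1`, `x m = m² x` -/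
def six (m x : P) (hm : m ^ 3 = 1) (hx : x ^ 2 = 1) (hxm : x * m = m ^ 2 * x) : Subgroup P where
  carrier := {y | ∃ i j : ℕ, i < 3 ∧ j < 2 ∧ y = m ^ i * x ^ j}
  one_mem' := ⟨0, 0, by norm_num, by norm_num, by simp⟩
  mul_mem' := by
    rintro _ _ ⟨i, j, hi, hj, rfl⟩ ⟨k, l, hk, hl, rfl⟩
    have hm' : ∀ n : ℕ, m ^ n = m ^ (n % 3) := fun n => by
      conv_lhs => rw [← Nat.div_add_mod n 3, pow_add, pow_mul, hm, one_pow, one_mul]
    have hx' : ∀ n : ℕ, x ^ n = x ^ (n % 2) := fun n => by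
      conv_lhs => rw [← Nat.div_add_mod n 2, pow_add, pow_mul, hx, one_pow, one_mul]
    have hc : ∀ n : ℕ, x * m ^ n = m ^ (2 * n) * x := by
      intro n
      induction n with
      | zero => simp
      | succ n ih => rw [pow_succ, ← mul_assoc, ih, mul_assoc, hxm, ← mul_assoc, ← pow_add]; ring_nf
    rcases Nat.lt_or_ge j 1 with h | h
    · have : j = 0 := by omega
      subst this
      refine ⟨(i + k) % 3, l, Nat.mod_lt _ (by norm_num), hl, ?_⟩
      rw [pow_zero, mul_one, ← mul_assoc, ← pow_add, hm' (i + k)]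
    · have : j = 1 := by omega
      subst this
      refine ⟨(i + 2 * k) % 3, (1 + l) % 2, Nat.mod_lt _ (by norm_num), Nat.mod_lt _ (by norm_num), ?_⟩
      rw [pow_one, ← mul_assoc, mul_assoc (m ^ i) x, hc, ← hm', ← hx', pow_add x, pow_one, pow_add m]
      simp only [mul_assoc]
  inv_mem' := by
    rintro _ ⟨i, j, hi, hj, rfl⟩
    have hm' : ∀ n : ℕ, m ^ n = m ^ (n % 3) := fun n => by
      conv_lhs => rw [← Nat.div_add_mod n 3, pow_add, pow_mul, hm, one_pow, one_mul]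
    have hc : ∀ n : ℕ, x * m ^ n = m ^ (2 * n) * x := by
      intro n
      induction n with
      | zero => simp
      | succ n ih => rw [pow_succ, ← mul_assoc, ih, mul_assoc, hxm, ← mul_assoc, ← pow_add]; ring_nf
    have hmi : (m ^ i)⁻¹ = m ^ (2 * i) := by
      rw [inv_eq_iff_mul_eq_one, ← pow_add]
      have : i + 2 * i = 3 * i := by ring
      rw [this, pow_mul, hm, one_pow]
    have hxi : x⁻¹ = x := by
      rw [inv_eq_iff_mul_eq_one, ← pow_two, hx]
    rcases Nat.lt_or_ge j 1 with h | h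
    · have : j = 0 := by omega
      subst this
      refine ⟨(2 * i) % 3, 0, Nat.mod_lt _ (by norm_num), by norm_num, ?_⟩
      rw [pow_zero, mul_one, mul_one, hmi, hm' (2 * i)]
    · have : j = 1 := by omega
      subst this
      refine ⟨(2 * (2 * i)) % 3, 1, Nat.mod_lt _ (by norm_num), by norm_num, ?_⟩
      rw [pow_one, mul_inv_rev, hmi, hxi, hc, ← hm']

theorem six_card (m x : P) (hm : m ^ 3 = 1) (hx : x ^ 2 = 1) (hxm : x * m = m ^ 2 * x) :
    Nat.card (six m x hm hx hxm) ≤ 6 := by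
  let f : Fin 3 × Fin 2 → six m x hm hx hxm := fun ij => ⟨m ^ (ij.1 : ℕ) * x ^ (ij.2 : ℕ), _, _, ij.1.2, ij.2.2, rfl⟩
  have hf : Function.Surjective f := by
    rintro ⟨_, i, j, hi, hj, rfl⟩
    exact ⟨(⟨i, hi⟩, ⟨j, hj⟩), rfl⟩
  have h1 := Nat.card_le_card_of_surjective f hf
  simpa using h1

/-- a subgroup with at most six images, modulo a kernel of exponent two, has order not divisible by nine -/
theorem not_nine {A : Type*} [Group A] [Finite A] (ρ : A →* P) (hker : ∀ a, ρ a = 1 → a * a = 1) {Γ : Subgroup A}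
    {H : Subgroup P} (hH : Nat.card H ≤ 6) (hHf : Finite H) (hΓ : ∀ γ ∈ Γ, ρ γ ∈ H) : ¬ 9 ∣ Nat.card Γ := by
  intro h9
  let f : Γ →* H := (ρ.comp Γ.subtype).codRestrict H (fun γ => hΓ γ γ.2)
  have h1 : Nat.card Γ = Nat.card f.ker * Nat.card f.range := by
    rw [← f.ker.card_mul_index, Subgroup.index_ker]
  have h2 : Nat.card f.range ≤ 6 := (Subgroup.card_le_card_group f.range).trans hH
  have h3 : IsPGroup 2 f.ker := by
    rintro ⟨x, hx⟩
    refine ⟨1, Subtype.ext (Subtype.ext ?_)⟩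
    have : ρ (x : A) = 1 := congrArg Subtype.val (MonoidHom.mem_ker.1 hx)
    show (x : A) ^ (2 ^ 1) = 1
    rw [pow_one, pow_two]
    exact hker _ this
  obtain ⟨k, hk⟩ := IsPGroup.iff_card.1 h3
  rw [h1, hk] at h9
  have h4 : 9 ∣ Nat.card f.range := by
    refine (Nat.Coprime.dvd_of_dvd_mul_left ?_ h9)
    exact Nat.Coprime.pow_right k (by norm_num)
  have h5 := Nat.le_of_dvd Nat.card_pos h4
  omega

end

/-! ### the concrete elements -/

section

variable {K : Type u} [Field K]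

/-- elements of `Aut_S(Q_a)` -/
theorem rho_ind (hK : HypG K 2 1) {γ : MulAut (Qa K)} (h : γ ∈ autInducedBy ⊤ (Qa K)) :
    rho hK γ = 1 ∨ ∀ v, rho hK γ v = ![v 0, v 1 + v 0, v 2 + v 0, v 3 + v 2 + v 1 + v 0] := by
  obtain ⟨g, -, hg⟩ := (mem_autInducedBy_iff _ _ _).1 h
  have h2 := two0 hK
  have hb : ∀ x : Qa K, vec (γ x) = ![(x : GU K).b, -g.a * (x : GU K).b + (x : GU K).c,
      -2 * g.a * (x : GU K).c + g.a ^ 2 * (x : GU K).b + (x : GU K).d,
      -3 * g.a * (x : GU K).d + 3 * g.a ^ 2 * (x : GU K).c - g.a ^ 3 * (x : GU K).b + (x : GU K).e] := by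
    intro x
    have hx := qa_a x
    funext i
    fin_cases i
    · show ((γ x : Qa K) : GU K).b = _
      rw [hg, cj_b]; rfl
    · show ((γ x : Qa K) : GU K).c = _
      rw [hg, cj_c]; simp [hx]
    · show ((γ x : Qa K) : GU K).d = _
      rw [hg, cj_d]; simp [hx]
    · show ((γ x : Qa K) : GU K).e = _
      rw [hg, cj_e]; simp [hx]
  rcases cases01 hK g.a with ha | ha
  · left
    apply Equiv.ext
    intro v
    rw [rho_apply, hb, ha]
    funext i
    fin_cases i <;> simp [lift]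
  · right
    intro v
    rw [rho_apply, hb, ha]
    funext i
    fin_cases i
    · rfl
    · simp [lift]; grind
    · simp [lift]; grind
    · simp [lift]; grind

/-- conjugation by `x1 1` -/
theorem exists_c1 (hK : HypG K 2 1) : ∃ γ ∈ autInducedBy ⊤ (Qa K),
    ∀ v, rho hK γ v = ![v 0, v 1 + v 0, v 2 + v 0, v 3 + v 2 + v 1 + v 0] := by
  let c : MulAut (Qa K) := MulAut.conjNormal (x1 (1 : K))
  have hc : ∀ y : Qa K, ((c y : Qa K) : GU K) = x1 1 * (y : GU K) * (x1 1)⁻¹ := fun y => MulAut.conjNormal_apply _ _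
  have hcm : c ∈ autInducedBy ⊤ (Qa K) :=
    (mem_autInducedBy_iff _ _ _).2 ⟨x1 1, Subgroup.mem_top _, fun y => by rw [hc]⟩
  refine ⟨c, hcm, ?_⟩
  rcases rho_ind hK hcm with h | h
  · exfalso
    have h1 : rho hK c ![1, 0, 0, 0] = ![1, 0, 0, 0] := by rw [h]; rfl
    rw [rho_apply] at h1
    have h2 := congrFun h1 1
    have h3 : vec (c (lift ![1, 0, 0, 0])) 1 = (x1 1 * (lift (![1, 0, 0, 0] : Fin 4 → K) : GU K) * (x1 1)⁻¹).c := by
      rw [← hc]; rfl
    rw [h3, cj_c] at h2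
    simp [x1, lift] at h2
  · exact h

variable (hK : HypG K 2 1)

/-- the permutations -/
structure Pm (r1 r2 x : Equiv.Perm (Fin 4 → K)) : Prop where
  e1 : ∀ v, r1 v = ![v 1, v 0 + v 1, v 3, v 2 + v 3]
  e2 : ∀ v, r2 v = ![v 2, v 3, v 0 + v 2, v 1 + v 3]
  ex : ∀ v, x v = ![v 0, v 1 + v 0, v 2 + v 0, v 3 + v 2 + v 1 + v 0]

omit [Field K] in
theorem perm_ext {f g : Equiv.Perm (Fin 4 → K)} (h : ∀ v, f v 0 = g v 0 ∧ f v 1 = g v 1 ∧ f v 2 = g v 2 ∧
    f v 3 = g v 3) : f = g := by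
  apply Equiv.ext
  intro v
  funext i
  obtain ⟨h0, h1, h2, h3⟩ := h v
  fin_cases i
  · exact h0
  · exact h1
  · exact h2
  · exact h3

variable {r1 r2 x : Equiv.Perm (Fin 4 → K)}

include hK in
theorem Pm.r1_3 (h : Pm r1 r2 x) : r1 ^ 3 = 1 := by
  have h2 := two0 hK
  apply perm_ext
  intro v
  rw [pow_three]
  simp only [Equiv.Perm.mul_apply, h.e1, Equiv.Perm.one_apply, Matrix.cons_val]
  refine ⟨?_, ?_, ?_, ?_⟩ <;> grind

include hK in
theorem Pm.r2_3 (h : Pm r1 r2 x) : r2 ^ 3 = 1 := by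
  have h2 := two0 hK
  apply perm_ext
  intro v
  rw [pow_three]
  simp only [Equiv.Perm.mul_apply, h.e2, Equiv.Perm.one_apply, Matrix.cons_val]
  refine ⟨?_, ?_, ?_, ?_⟩ <;> grind

include hK in
theorem Pm.x_2 (h : Pm r1 r2 x) : x ^ 2 = 1 := by
  have h2 := two0 hK
  apply perm_ext
  intro v
  rw [pow_two]
  simp only [Equiv.Perm.mul_apply, h.ex, Equiv.Perm.one_apply, Matrix.cons_val]
  refine ⟨?_, ?_, ?_, ?_⟩ <;> grind

include hK in
theorem Pm.comm (h : Pm r1 r2 x) : r1 * r2 = r2 * r1 := by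
  have h2 := two0 hK
  apply perm_ext
  intro v
  simp only [Equiv.Perm.mul_apply, h.e1, h.e2, Matrix.cons_val]
  refine ⟨?_, ?_, ?_, ?_⟩ <;> grind

include hK in
theorem Pm.x_r1 (h : Pm r1 r2 x) : x * r1 = r1 ^ 2 * x := by
  have h2 := two0 hK
  apply perm_ext
  intro v
  rw [pow_two]
  simp only [Equiv.Perm.mul_apply, h.e1, h.ex, Matrix.cons_val]
  refine ⟨?_, ?_, ?_, ?_⟩ <;> grind

include hK in
theorem Pm.x_r2 (h : Pm r1 r2 x) : x * r2 = r2 ^ 2 * x := by
  have h2 := two0 hK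
  apply perm_ext
  intro v
  rw [pow_two]
  simp only [Equiv.Perm.mul_apply, h.e2, h.ex, Matrix.cons_val]
  refine ⟨?_, ?_, ?_, ?_⟩ <;> grind

theorem exists_pm (hK : HypG K 2 1) : ∃ γ1 γ2 γx : MulAut (Qa K), LinA R1m γ1 ∧ LinA R2m γ2 ∧
    γx ∈ autInducedBy ⊤ (Qa K) ∧ Pm (rho hK γ1) (rho hK γ2) (rho hK γx) := by
  obtain ⟨γ1, h1⟩ := exists_R1 hK
  obtain ⟨γ2, h2⟩ := exists_R2 hK
  obtain ⟨γx, hx, hx'⟩ := exists_c1 hK
  refine ⟨γ1, γ2, γx, h1, h2, hx, fun v => ?_, fun v => ?_, hx'⟩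
  · rw [(linA_iff hK).1 h1, R1m_mulVec]
  · rw [(linA_iff hK).1 h2, R2m_mulVec]

/-! ### nine divides -/

/-- a group containing lifts of `R1m` and `R2m` has order divisible by nine -/
theorem nine_dvd (hK : HypG K 2 1) {Γ : Subgroup (MulAut (Qa K))} {γ1 γ2 : MulAut (Qa K)} (h1 : LinA R1m γ1)
    (h2 : LinA R2m γ2) (m1 : γ1 ∈ Γ) (m2 : γ2 ∈ Γ) : 9 ∣ Nat.card Γ := by
  have hfin : Finite K := hK.fin
  obtain ⟨_, _, γx, -, -, -, hP⟩ := exists_pm hK
  have hP' : Pm (rho hK γ1) (rho hK γ2) (rho hK γx) :=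
    ⟨fun v => by rw [(linA_iff hK).1 h1, R1m_mulVec], fun v => by rw [(linA_iff hK).1 h2, R2m_mulVec], hP.ex⟩
  have hne : (1 : K) ≠ 0 := one_ne_zero
  have key : 9 ∣ Nat.card (Γ.map (rho hK)) := by
    refine nine_of (hP'.r1_3 hK) (hP'.r2_3 hK) (hP'.comm hK) ?_ ?_ ?_ ?_ ⟨γ1, m1, rfl⟩ ⟨γ2, m2, rfl⟩
    · intro h
      have := congrFun (congrArg (fun f : Equiv.Perm (Fin 4 → K) => f ![1, 0, 0, 0]) h) 0
      simp [hP'.e1] at this
    · intro h
      have := congrFun (congrArg (fun f : Equiv.Perm (Fin 4 → K) => f ![1, 0, 0, 0]) h) 0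
      simp [hP'.e2] at this
    · intro h
      have := congrFun (congrArg (fun f : Equiv.Perm (Fin 4 → K) => f ![1, 0, 0, 0]) h) 1
      simp [hP'.e1, hP'.e2] at this
    · intro h
      have := congrFun (congrArg (fun f : Equiv.Perm (Fin 4 → K) => f ![1, 0, 0, 0]) h) 0
      simp [hP'.e1, hP'.e2] at this
  exact key.trans (Subgroup.card_map_dvd _ _)

/-- the diagonal case -/
theorem nine_dvd' (hK : HypG K 2 1) {Γ : Subgroup (MulAut (Qa K))} {i j k l : ℕ} {γ δ : MulAut (Qa K)}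
    (h1 : LinA (R1m ^ i * R2m ^ j) γ) (h2 : LinA (R1m ^ k * R2m ^ l) δ) (m1 : γ ∈ Γ) (m2 : δ ∈ Γ)
    {a b c d : ℕ} (e1 : (a * i + b * k) % 3 = 1) (e2 : (a * j + b * l) % 3 = 0) (e3 : (c * i + d * k) % 3 = 0)
    (e4 : (c * j + d * l) % 3 = 1) : 9 ∣ Nat.card Γ := by
  obtain ⟨γ1, γ2, γx, g1, g2, -, hP⟩ := exists_pm hK
  set r1 := rho hK γ1 with hr1
  set r2 := rho hK γ2 with hr2
  have hR1 : ∀ v, r1 v = R1m.mulVec v := (linA_iff hK).1 g1
  have hR2 : ∀ v, r2 v = R2m.mulVec v := (linA_iff hK).1 g2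
  have p1 : ∀ (n : ℕ) v, (r1 ^ n) v = (R1m ^ n).mulVec v := by
    intro n
    induction n with
    | zero => intro v; simp
    | succ n ih => intro v; rw [pow_succ, Equiv.Perm.mul_apply, ih, hR1, Matrix.mulVec_mulVec, ← pow_succ]
  have p2 : ∀ (n : ℕ) v, (r2 ^ n) v = (R2m ^ n).mulVec v := by
    intro n
    induction n with
    | zero => intro v; simp
    | succ n ih => intro v; rw [pow_succ, Equiv.Perm.mul_apply, ih, hR2, Matrix.mulVec_mulVec, ← pow_succ]
  have q : ∀ {i j : ℕ} {γ : MulAut (Qa K)}, LinA (R1m ^ i * R2m ^ j) γ → rho hK γ = r1 ^ i * r2 ^ j := by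
    intro i j γ h
    apply Equiv.ext
    intro v
    rw [Equiv.Perm.mul_apply, (linA_iff hK).1 h, p1, p2, Matrix.mulVec_mulVec]
  have c1 : r1 ^ 3 = 1 := hP.r1_3 hK
  have c2 : r2 ^ 3 = 1 := hP.r2_3 hK
  have cc : Commute r1 r2 := hP.comm hK
  have hm1 : ∀ n : ℕ, r1 ^ n = r1 ^ (n % 3) := fun n => by
    conv_lhs => rw [← Nat.div_add_mod n 3, pow_add, pow_mul, c1, one_pow, one_mul]
  have hm2 : ∀ n : ℕ, r2 ^ n = r2 ^ (n % 3) := fun n => by
    conv_lhs => rw [← Nat.div_add_mod n 3, pow_add, pow_mul, c2, one_pow, one_mul]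
  have mix : ∀ a b : ℕ, rho hK (γ ^ a * δ ^ b) = r1 ^ (a * i + b * k) * r2 ^ (a * j + b * l) := by
    intro a b
    rw [map_mul, map_pow, map_pow, q h1, q h2, (cc.pow_pow i j).mul_pow, (cc.pow_pow k l).mul_pow, ← pow_mul,
      ← pow_mul, ← pow_mul, ← pow_mul, mul_comm a i, mul_comm b k, mul_comm a j, mul_comm b l, pow_add, pow_add,
      mul_assoc, mul_assoc]
    congr 1
    rw [← mul_assoc, ← mul_assoc, (cc.pow_pow (k * b) (j * a)).eq]
  have s1 : LinA R1m (γ ^ a * δ ^ b) := by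
    rw [linA_iff hK]
    intro v
    rw [mix, hm1, hm2, e1, e2, pow_one, pow_zero, mul_one, hR1]
  have s2 : LinA R2m (γ ^ c * δ ^ d) := by
    rw [linA_iff hK]
    intro v
    rw [mix, hm1, hm2, e3, e4, pow_one, pow_zero, one_mul, hR2]
  exact nine_dvd hK s1 s2 (mul_mem (pow_mem m1 a) (pow_mem m2 b)) (mul_mem (pow_mem m1 c) (pow_mem m2 d))

end

end Cfsg.Agent.H270.GT
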